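import Mathlib.RingTheory.Ideal.MinimalPrime.Localization
import Mathlib.RingTheory.Ideal.MinimalPrime.Noetherian
import Mathlib.RingTheory.KrullDimension.Basic
import Mathlib.RingTheory.KrullDimension.Zero
import Mathlib.RingTheory.KrullDimension.Field
import Mathlib.RingTheory.Spectrum.Prime.Topology
import Mathlib.RingTheory.Spectrum.Prime.Noetherian
import Mathlib.RingTheory.HopkinsLevitzki
import Mathlib.RingTheory.OrderOfVanishing.Basic
import Mathlib.RingTheory.LocalRing.ResidueField.Ideal
import Mathlib.RingTheory.Localization.LocalizationLocalization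
import Mathlib.RingTheory.LocalProperties.Reduced
import Mathlib.RingTheory.Localization.Submodule

/-!
# Noetherian local rings of dimension one: elements outside the minimal primes
-/

set_option autoImplicit false
universe u

namespace K421.DimOne

open IsLocalRing

variable (A : Type u) [CommRing A] [IsLocalRing A]

omit [IsLocalRing A] in
theorem krullDimLE_one (hdim : ringKrullDim A = 1) : Ring.KrullDimLE 1 A := by
  rw [Ring.krullDimLE_iff, hdim]; exact le_rfl

variable {A}

/-- In a one-dimensional local ring every prime is minimal or maximal. -/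
theorem mem_minimalPrimes_or (hdim : ringKrullDim A = 1) (p : Ideal A) (hp : p.IsPrime) :
    p ∈ minimalPrimes A ∨ p = maximalIdeal A := by
  have := krullDimLE_one A hdim
  rcases Ring.krullDimLE_one_iff.mp this p hp with h | h
  · exact Or.inl h
  · exact Or.inr (eq_maximalIdeal h)

theorem maximalIdeal_notMem (hdim : ringKrullDim A = 1) : maximalIdeal A ∉ minimalPrimes A := by
  intro h
  have h0 : Ring.KrullDimLE 0 A := by
    rw [Ring.krullDimLE_zero_iff]
    intro I hI
    have h1 : I ≤ maximalIdeal A := le_maximalIdeal hI.ne_top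
    have h2 : maximalIdeal A ≤ I := h.2 ⟨hI, bot_le⟩ h1
    rw [le_antisymm h1 h2]
    exact maximalIdeal.isMaximal A
  rw [Ring.krullDimLE_iff, hdim] at h0
  norm_num at h0

theorem notMem_of_ne (hdim : ringKrullDim A = 1) {p : Ideal A} (hp : p ∈ minimalPrimes A) :
    ¬ maximalIdeal A ≤ p := by
  intro h
  have h1 : p ≤ maximalIdeal A := le_maximalIdeal hp.1.1.ne_top
  apply maximalIdeal_notMem hdim
  rw [le_antisymm h h1]; exact hp

theorem exists_mem_forall_notMem [IsNoetherianRing A] (hdim : ringKrullDim A = 1) :
    ∃ f ∈ maximalIdeal A, ∀ p ∈ minimalPrimes A, f ∉ p := by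
  by_contra hcon
  push Not at hcon
  have hfin : (minimalPrimes A).Finite := minimalPrimes.finite_of_isNoetherianRing A
  have h1 : ((maximalIdeal A : Ideal A) : Set A) ⊆ ⋃ p ∈ (hfin.toFinset : Set (Ideal A)), (p : Set A) := by
    intro f hf
    obtain ⟨p, hp, hfp⟩ := hcon f hf
    simp only [Set.mem_iUnion]
    exact ⟨p, by simpa using hp, hfp⟩
  have h2 := (Ideal.subset_union_prime (s := hfin.toFinset) (f := fun p : Ideal A => p) ⊥ ⊥ (fun p hp _ _ => by
    have : p ∈ minimalPrimes A := by simpa using hp
    exact this.1.1)).mp h1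
  obtain ⟨p, hp, hle⟩ := h2
  exact notMem_of_ne hdim (by simpa using hp) hle

theorem radical_eq_iff (hdim : ringKrullDim A = 1) {f : A} (hf : f ∈ maximalIdeal A) :
    (maximalIdeal A = (Ideal.span {f}).radical) ↔ (∀ p ∈ minimalPrimes A, f ∉ p) := by
  constructor
  · intro h p hp hfp
    apply notMem_of_ne hdim hp
    rw [h, hp.1.1.radical_le_iff, Ideal.span_singleton_le_iff_mem]
    exact hfp
  · intro h
    apply le_antisymm
    · rw [Ideal.radical_eq_sInf]
      apply le_sInf
      rintro J ⟨hJ, hJp⟩
      rcases mem_minimalPrimes_or hdim J hJp with h1 | h1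
      · exact absurd (hJ (Ideal.mem_span_singleton_self f)) (h J h1)
      · rw [h1]
    · rw [Ideal.IsPrime.radical_le_iff inferInstance, Ideal.span_singleton_le_iff_mem]
      exact hf

/-- An element outside the minimal primes is a nonzerodivisor as soon as the maximal ideal is not associated. -/
theorem mem_nonZeroDivisors_of_depth [IsNoetherianRing A] (hdim : ringKrullDim A = 1)
    (hd : ∀ x : A, (∀ a ∈ maximalIdeal A, a • x = 0) → x = 0) {f : A}
    (hf : ∀ p ∈ minimalPrimes A, f ∉ p) : f ∈ nonZeroDivisors A := by
  by_cases hfm : f ∈ maximalIdeal A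
  swap
  · exact IsUnit.mem_nonZeroDivisors (by simpa using hfm)
  have hrad := (radical_eq_iff hdim hfm).mpr hf
  obtain ⟨n, hn⟩ := Ideal.exists_radical_pow_le_of_fg (Ideal.span {f}) ((isNoetherianRing_iff_ideal_fg A).mp inferInstance _)
  rw [← hrad] at hn
  rw [mem_nonZeroDivisors_iff_right]
  intro x hx
  have key : ∀ (n : ℕ) (y : A), (∀ a ∈ maximalIdeal A ^ n, a * y = 0) → y = 0 := by
    intro n
    induction n with
    | zero => intro y hy; simpa using hy 1 (by simp)
    | succ n ih =>
      intro y hy
      apply hd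
      intro a ha
      apply ih
      intro b hb
      rw [smul_eq_mul, ← mul_assoc]
      apply hy
      rw [pow_succ]
      exact Ideal.mul_mem_mul hb ha
  apply key n x
  intro a ha
  obtain ⟨c, rfl⟩ := Ideal.mem_span_singleton.mp (hn ha)
  calc f * c * x = c * (x * f) := by ring
    _ = 0 := by rw [hx, mul_zero]

omit [IsLocalRing A] in
theorem mem_nonZeroDivisors_of_isReduced [IsReduced A] {f : A}
    (hf : ∀ p ∈ minimalPrimes A, f ∉ p) : f ∈ nonZeroDivisors A := by
  rw [mem_nonZeroDivisors_iff_right]
  intro x hx
  have h : x ∈ sInf (minimalPrimes A) := by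
    rw [Ideal.mem_sInf]
    intro q hq
    have : x * f ∈ q := by rw [hx]; exact q.zero_mem
    exact (hq.1.1.mem_or_mem this).resolve_right (hf q hq)
  rw [show sInf (minimalPrimes A) = sInf ((⊥ : Ideal A).minimalPrimes) from rfl,
    Ideal.sInf_minimalPrimes] at h
  have h2 : x ∈ nilradical A := h
  rw [nilradical_eq_zero] at h2
  exact h2

omit [IsLocalRing A] in
theorem notMem_of_mem_nonZeroDivisors {f : A} (hf : f ∈ nonZeroDivisors A) :
    ∀ p ∈ minimalPrimes A, f ∉ p :=
  fun _ hp hfp => notMem_nonZeroDivisors_of_mem_mem_minimalPrimes hfp hp hf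

theorem isLocalization_of_nonZeroDivisor [IsNoetherianRing A] (hdim : ringKrullDim A = 1) {f : A}
    (hf : f ∈ maximalIdeal A) (hf0 : f ∈ nonZeroDivisors A) (S : Type u) [CommRing S] [Algebra A S]
    [IsLocalization.Away f S] : IsLocalization (nonZeroDivisors A) S := by
  refine IsLocalization.of_le_of_exists_dvd (Submonoid.powers f) (nonZeroDivisors A) ?_ ?_
  · rw [Submonoid.powers_le]; exact hf0
  · intro n hn
    by_cases hnm : n ∈ maximalIdeal A
    · have h1 := (radical_eq_iff hdim hnm).mpr (notMem_of_mem_nonZeroDivisors hn)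
      rw [h1] at hf
      obtain ⟨k, hk⟩ := hf
      exact ⟨f ^ k, ⟨k, rfl⟩, Ideal.mem_span_singleton.mp hk⟩
    · exact ⟨1, one_mem _, (by simpa using hnm : IsUnit n).dvd⟩

omit [IsLocalRing A] in
theorem mem_nonZeroDivisors_of_isLocalization {f : A} (S : Type u) [CommRing S] [Algebra A S]
    [IsLocalization.Away f S] [IsLocalization (nonZeroDivisors A) S] : f ∈ nonZeroDivisors A := by
  have hinj : Function.Injective (algebraMap A S) := IsLocalization.injective S le_rfl
  rw [mem_nonZeroDivisors_iff_right]
  intro x hx
  apply hinj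
  rw [map_zero]
  have h1 := congrArg (algebraMap A S) hx
  rw [map_mul, map_zero] at h1
  exact ((IsLocalization.Away.algebraMap_isUnit (S := S) f).mul_left_eq_zero).mp h1

section Pi

variable {f : A}

/-- The primes of `A_f` are the minimal primes of `A`. -/
noncomputable def specEquiv (hdim : ringKrullDim A = 1) (hfm : f ∈ maximalIdeal A)
    (hf : ∀ p ∈ minimalPrimes A, f ∉ p) :
    PrimeSpectrum (Localization.Away f) ≃ {p : PrimeSpectrum A // p.asIdeal ∈ minimalPrimes A} :=
  Equiv.ofBijective (fun P => ⟨P.comap (algebraMap A (Localization.Away f)), by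
    rcases mem_minimalPrimes_or hdim _ (P.comap (algebraMap A (Localization.Away f))).2 with h | h
    · exact h
    · exfalso
      have h1 : f ∈ (P.comap (algebraMap A (Localization.Away f))).asIdeal := by rw [h]; exact hfm
      exact P.2.ne_top (Ideal.eq_top_of_isUnit_mem _ h1 (IsLocalization.Away.algebraMap_isUnit f))⟩) (by
    constructor
    · intro P Q h
      exact PrimeSpectrum.localization_comap_injective (Localization.Away f) (Submonoid.powers f)
        (congrArg Subtype.val h)
    · rintro ⟨p, hp⟩
      have h1 : p ∈ Set.range (PrimeSpectrum.comap (algebraMap A (Localization.Away f))) := by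
        rw [PrimeSpectrum.localization_away_comap_range (Localization.Away f) f]
        exact hf _ hp
      obtain ⟨P, rfl⟩ := h1
      exact ⟨P, rfl⟩)

theorem specEquiv_apply (hdim : ringKrullDim A = 1) (hfm : f ∈ maximalIdeal A)
    (hf : ∀ p ∈ minimalPrimes A, f ∉ p) (P : PrimeSpectrum (Localization.Away f)) :
    (specEquiv hdim hfm hf P).1 = P.comap (algebraMap A (Localization.Away f)) := rfl

theorem krullDimLE_zero_away (hdim : ringKrullDim A = 1) (hfm : f ∈ maximalIdeal A)
    (hf : ∀ p ∈ minimalPrimes A, f ∉ p) : Ring.KrullDimLE 0 (Localization.Away f) := by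
  rw [Ring.krullDimLE_zero_iff]
  intro P hP
  obtain ⟨Q, hQ, hPQ⟩ := P.exists_le_maximal hP.ne_top
  have hQp : Q.IsPrime := hQ.isPrime
  have h1 : P.comap (algebraMap A (Localization.Away f)) ≤ Q.comap (algebraMap A (Localization.Away f)) :=
    Ideal.comap_mono hPQ
  have h2 : Q.comap (algebraMap A (Localization.Away f)) ∈ minimalPrimes A :=
    (specEquiv hdim hfm hf ⟨Q, hQp⟩).2
  have h3 := h2.2 ⟨inferInstance, bot_le⟩ h1
  have h4 : (⟨P, hP⟩ : PrimeSpectrum (Localization.Away f)) = ⟨Q, hQp⟩ :=
    PrimeSpectrum.localization_comap_injective (Localization.Away f) (Submonoid.powers f)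
      (PrimeSpectrum.ext (le_antisymm h1 h3))
  have h5 : P = Q := congrArg PrimeSpectrum.asIdeal h4
  rw [h5]; exact hQ

/-- `A_f` is the product of the local rings at the minimal primes. -/
theorem nonempty_algEquiv_pi [IsNoetherianRing A] (hdim : ringKrullDim A = 1)
    (hfm : f ∈ maximalIdeal A) (hf : ∀ p ∈ minimalPrimes A, f ∉ p) :
    Nonempty (Localization.Away f ≃ₐ[A]
      (∀ p : {p : PrimeSpectrum A // p.asIdeal ∈ minimalPrimes A}, Localization.AtPrime p.1.asIdeal)) := by
  have h0 := krullDimLE_zero_away hdim hfm hf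
  have hN : IsNoetherianRing (Localization.Away f) :=
    IsLocalization.isNoetherianRing (Submonoid.powers f) _ inferInstance
  have hArt : IsArtinianRing (Localization.Away f) := IsNoetherianRing.isArtinianRing_of_krullDimLE_zero
  have hdisc : DiscreteTopology (PrimeSpectrum (Localization.Away f)) := inferInstance
  let e1 : Localization.Away f ≃ₐ[A] PrimeSpectrum.PiLocalization (Localization.Away f) :=
    (PrimeSpectrum.toPiLocalizationEquiv (R := Localization.Away f)).restrictScalars A
  let e2 : PrimeSpectrum.PiLocalization (Localization.Away f) ≃ₐ[A]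
      (∀ P : PrimeSpectrum (Localization.Away f),
        Localization.AtPrime (specEquiv hdim hfm hf P).1.asIdeal) :=
    AlgEquiv.piCongrRight fun P =>
      (IsLocalization.localizationLocalizationAtPrimeIsoLocalization (Submonoid.powers f) P.asIdeal).symm
  let e3 := AlgEquiv.piCongrLeft A
    (fun p : {p : PrimeSpectrum A // p.asIdeal ∈ minimalPrimes A} => Localization.AtPrime p.1.asIdeal)
    (specEquiv hdim hfm hf)
  exact ⟨(e1.trans e2).trans e3⟩

omit [IsLocalRing A] in
/-- Over a reduced ring the local ring at a minimal prime is its residue field. -/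
theorem nonempty_residueField_algEquiv [IsReduced A] (p : Ideal A) [p.IsPrime] (hp : p ∈ minimalPrimes A) :
    Nonempty (Localization.AtPrime p ≃ₐ[A] p.ResidueField) := by
  have h0 : Ring.KrullDimLE 0 (Localization.AtPrime p) := Ring.KrullDimLE.of_isLocalization p hp _
  have hred : IsReduced (Localization.AtPrime p) :=
    isReduced_localizationPreserves p.primeCompl _ inferInstance
  have hF : IsField (Localization.AtPrime p) := Ring.KrullDimLE.isField_of_isReduced
  let g : Localization.AtPrime p →ₐ[A] p.ResidueField := IsScalarTower.toAlgHom A _ _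
  have hg : Function.Bijective g := by
    refine ⟨?_, residue_surjective⟩
    let _ := hF.toField
    exact (residue (Localization.AtPrime p)).injective
  exact ⟨AlgEquiv.ofBijective g hg⟩

end Pi

end K421.DimOne
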