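import Groth.Prelude.Def_Curv2
import Groth.Agent.CurvesC.AnUnram
import Groth.Agent.Ega4C.NormalRing
import Groth.Agent.Variety.K421.DimOne
import Mathlib.RingTheory.IntegralClosure.GoingDown
import Mathlib.RingTheory.Ideal.GoingUp
import Mathlib.RingTheory.DiscreteValuationRing.TFAE

/-!
# The integral closure of a reduced Noetherian ring in its total ring of fractions, and the delta invariant
-/

set_option autoImplicit false
universe u

open IsLocalRing nonZeroDivisors

namespace K421.NormCl

variable (A : Type u) [CommRing A]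

/-- The integral closure of `A` in its total ring of fractions. -/
abbrev Cl : Type u := integralClosure A (FractionRing A)

theorem injective_cl : Function.Injective (algebraMap A (Cl A)) := by
  intro x y h
  apply IsFractionRing.injective A (FractionRing A)
  exact congrArg Subtype.val h

theorem isFractionRing_cl : IsFractionRing (Cl A) (FractionRing A) :=
  Groth.Agent.Ega4C.NormalRing.isFractionRing_subalgebra _

theorem isIntegrallyClosed_cl : IsIntegrallyClosed (Cl A) := by
  have := isFractionRing_cl A
  rw [isIntegrallyClosed_iff (FractionRing A)]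
  intro x hx
  have h1 : IsIntegral A x := isIntegral_trans x hx
  exact ⟨⟨x, h1⟩, rfl⟩

theorem isReduced_fractionRing [IsReduced A] : IsReduced (FractionRing A) :=
  isReduced_localizationPreserves A⁰ _ inferInstance

theorem isReduced_cl [IsReduced A] : IsReduced (Cl A) := by
  have := isReduced_fractionRing A
  exact isReduced_of_injective (algebraMap (Cl A) (FractionRing A)) Subtype.val_injective

theorem finite_cl [IsReduced A] (hN : CAlg.IsNagata A) : Module.Finite A (Cl A) :=
  Groth.Agent.CurvesC.AnUnram.finite_integralClosure_of_isNagata A hN A⁰ le_rfl (FractionRing A)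

theorem isNoetherianRing_cl [IsNoetherianRing A] [Module.Finite A (Cl A)] : IsNoetherianRing (Cl A) :=
  isNoetherian_of_isNoetherianRing_of_finite A (Cl A) |> isNoetherian_of_tower A

theorem isNormalRing_cl [IsReduced A] [IsNoetherianRing A] [Module.Finite A (Cl A)] :
    EGA4.IsNormalRing (Cl A) := by
  have := isIntegrallyClosed_cl A
  have := isReduced_cl A
  have := isNoetherianRing_cl A
  exact Groth.Agent.Ega4C.NormalRing.isNormalRing_of_isIntegrallyClosed (Cl A)
    (minimalPrimes.finite_of_isNoetherianRing _)

/-- A common denominator of the normalization. -/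
theorem exists_denominator [Module.Finite A (Cl A)] :
    ∃ f ∈ A⁰, ∀ z : Cl A, ∃ a : A, algebraMap A (Cl A) a = f • z := by
  classical
  obtain ⟨s, hs⟩ := (inferInstance : Module.Finite A (Cl A)).fg_top
  have key : ∀ z : Cl A, ∃ f ∈ A⁰, ∃ a : A, algebraMap A (Cl A) a = f • z := by
    intro z
    obtain ⟨⟨a, f⟩, haf⟩ := IsLocalization.surj A⁰ (z : FractionRing A)
    refine ⟨f, f.2, a, ?_⟩
    apply Subtype.ext
    change algebraMap A (FractionRing A) a = ((f : A) • z : Cl A)
    rw [Subalgebra.coe_smul, Algebra.smul_def, mul_comm]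
    exact haf.symm
  choose f hf a ha using key
  refine ⟨∏ z ∈ s, f z, Submonoid.prod_mem _ fun z _ => hf z, ?_⟩
  intro z
  have hz : z ∈ Submodule.span A (s : Set (Cl A)) := by rw [hs]; trivial
  induction hz using Submodule.span_induction with
  | mem x hx =>
    refine ⟨(∏ z ∈ s.erase x, f z) * a x, ?_⟩
    rw [← Finset.mul_prod_erase s f hx, map_mul, ha, mul_comm (f x), mul_smul, Algebra.smul_def
      (∏ z ∈ s.erase x, f z)]
  | zero => exact ⟨0, by simp⟩
  | add x y _ _ hx hy =>
    obtain ⟨a, ha⟩ := hx
    obtain ⟨b, hb⟩ := hy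
    exact ⟨a + b, by rw [map_add, ha, hb, smul_add]⟩
  | smul r x _ hx =>
    obtain ⟨a, ha⟩ := hx
    refine ⟨r * a, ?_⟩
    rw [map_mul, ha, smul_comm, Algebra.smul_def r]

/-- A finite module killed by a nonzerodivisor of a Noetherian ring of dimension at most one has finite length. -/
theorem isFiniteLength_of_annihilated [IsNoetherianRing A] [Ring.KrullDimLE 1 A] {f : A} (hf : f ∈ A⁰)
    (M : Type u) [AddCommGroup M] [Module A M] [Module.Finite A M] (hM : ∀ m : M, f • m = 0) :
    IsFiniteLength A M := by
  obtain ⟨n, π, hπ⟩ := Module.Finite.exists_fin' A M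
  have h1 : IsFiniteLength A (A ⧸ Ideal.span {f}) := isFiniteLength_quotient_span_singleton A hf
  rw [isFiniteLength_iff_isNoetherian_isArtinian] at h1
  obtain ⟨h1, h2⟩ := h1
  have hker : ∀ v : Fin n → A, (∀ i, v i ∈ Ideal.span {f}) → π v = 0 := by
    intro v hv
    choose c hc using fun i => Ideal.mem_span_singleton.mp (hv i)
    have : v = f • c := by
      ext i; rw [Pi.smul_apply, smul_eq_mul]; exact hc i
    rw [this, map_smul, hM]
  let q : (Fin n → A) →ₗ[A] (Fin n → A ⧸ Ideal.span {f}) :=
    LinearMap.pi fun i => (Ideal.span {f}).mkQ ∘ₗ LinearMap.proj i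
  have hq : Function.Surjective q := by
    intro w
    choose v hv using fun i => (Ideal.span {f}).mkQ_surjective (w i)
    exact ⟨v, funext hv⟩
  have hle : LinearMap.ker q ≤ LinearMap.ker π := by
    intro v hv
    rw [LinearMap.mem_ker] at hv ⊢
    apply hker
    intro i
    have := congrFun hv i
    exact (Submodule.Quotient.mk_eq_zero _).mp this
  let g : (Fin n → A ⧸ Ideal.span {f}) →ₗ[A] M :=
    (LinearMap.ker q).liftQ π hle ∘ₗ (q.quotKerEquivOfSurjective hq).symm.toLinearMap
  have hg : Function.Surjective g := by
    intro m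
    obtain ⟨v, rfl⟩ := hπ m
    refine ⟨q v, ?_⟩
    have : (q.quotKerEquivOfSurjective hq).symm (q v) = Submodule.Quotient.mk v := by
      rw [LinearEquiv.symm_apply_eq]; rfl
    change (LinearMap.ker q).liftQ π hle ((q.quotKerEquivOfSurjective hq).symm (q v)) = π v
    rw [this]; rfl
  rw [isFiniteLength_iff_isNoetherian_isArtinian]
  exact ⟨isNoetherian_of_surjective g (LinearMap.range_eq_top.mpr hg),
    isArtinian_of_surjective _ g hg⟩

/-- The quotient of the normalization by the ring. -/
abbrev Dl : Type u := Cl A ⧸ LinearMap.range (Algebra.linearMap A (Cl A))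

theorem deltaInv_eq : Curv2.deltaInv A = Module.length A (Dl A) := rfl

theorem exists_nonZeroDivisor_annihilating [Module.Finite A (Cl A)] :
    ∃ f ∈ A⁰, ∀ m : Dl A, f • m = 0 := by
  obtain ⟨f, hf, h⟩ := exists_denominator A
  refine ⟨f, hf, fun m => ?_⟩
  obtain ⟨z, rfl⟩ := Submodule.Quotient.mk_surjective _ m
  rw [← Submodule.Quotient.mk_smul, Submodule.Quotient.mk_eq_zero]
  obtain ⟨a, ha⟩ := h z
  exact ⟨a, ha⟩

theorem isFiniteLength_dl [IsNoetherianRing A] [Ring.KrullDimLE 1 A] [Module.Finite A (Cl A)] :
    IsFiniteLength A (Dl A) := by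
  obtain ⟨f, hf, h⟩ := exists_nonZeroDivisor_annihilating A
  exact isFiniteLength_of_annihilated A hf _ h

theorem deltaInv_lt_top [IsNoetherianRing A] [Ring.KrullDimLE 1 A] [Module.Finite A (Cl A)] :
    Curv2.deltaInv A < ⊤ := by
  rw [lt_top_iff_ne_top, deltaInv_eq, Module.length_ne_top_iff]
  exact isFiniteLength_dl A

theorem deltaInv_eq_zero_iff : Curv2.deltaInv A = 0 ↔ IsIntegrallyClosed A := by
  rw [deltaInv_eq, Module.length_eq_zero_iff, Submodule.Quotient.subsingleton_iff,
    isIntegrallyClosed_iff (FractionRing A), LinearMap.range_eq_top]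
  constructor
  · intro h x hx
    obtain ⟨a, ha⟩ := h ⟨x, hx⟩
    exact ⟨a, congrArg Subtype.val ha⟩
  · intro h z
    obtain ⟨a, ha⟩ := h z.2
    exact ⟨a, Subtype.ext ha⟩

/-- A reduced Noetherian local ring which is integrally closed in its total ring of fractions is a domain. -/
theorem isDomain_of_isLocalRing [IsLocalRing A] [IsReduced A] [IsNoetherianRing A] [IsIntegrallyClosed A] :
    IsDomain A := by
  have h := Groth.Agent.Ega4C.NormalRing.isNormalRing_of_isIntegrallyClosed A
    (minimalPrimes.finite_of_isNoetherianRing _)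
  have h1 := (h (maximalIdeal A)).1
  have hinj : Function.Injective (algebraMap A (Localization.AtPrime (maximalIdeal A))) := by
    intro x y hxy
    obtain ⟨s, hs⟩ := IsLocalization.exists_of_eq (M := (maximalIdeal A).primeCompl) hxy
    have : IsUnit (s : A) := by
      have := s.2
      rw [Ideal.mem_primeCompl_iff, mem_maximalIdeal, mem_nonunits_iff, not_not] at this
      exact this
    exact this.mul_left_cancel hs
  exact hinj.isDomain _

/-- In a one-dimensional reduced local ring the maximal ideals of the normalization lie over the maximal ideal. -/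
theorem comap_eq_maximalIdeal [IsLocalRing A] (M : Ideal (Cl A)) [M.IsMaximal] :
    M.comap (algebraMap A (Cl A)) = maximalIdeal A :=
  eq_maximalIdeal (Ideal.isMaximal_comap_of_isIntegral_of_isMaximal M)

/-- The localizations of the normalization at its maximal ideals are discrete valuation rings, in dimension one. -/
theorem isDiscreteValuationRing_cl [IsLocalRing A] [IsReduced A] [IsNoetherianRing A]
    (hdim : ringKrullDim A = 1) [Module.Finite A (Cl A)] (M : Ideal (Cl A)) [hM : M.IsMaximal] :
    ∃ _ : IsDomain (Localization.AtPrime M), IsDiscreteValuationRing (Localization.AtPrime M) := by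
  have hdom : IsDomain (Localization.AtPrime M) := (isNormalRing_cl A M).1
  have hic : IsIntegrallyClosed (Localization.AtPrime M) := (isNormalRing_cl A M).2
  have := isNoetherianRing_cl A
  refine ⟨hdom, ?_⟩
  have hNM : IsNoetherianRing (Localization.AtPrime M) := inferInstance
  -- the maximal ideal of the localization contains a nonzero element
  obtain ⟨f, hfm, hf⟩ := DimOne.exists_mem_forall_notMem (A := A) hdim
  have hf0 : f ∈ A⁰ := DimOne.mem_nonZeroDivisors_of_isReduced hf
  have hf1 : algebraMap A (Cl A) f ∈ (Cl A)⁰ := by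
    rw [mem_nonZeroDivisors_iff_right]
    intro z hz
    have hu : IsUnit (algebraMap A (FractionRing A) f) := IsLocalization.map_units (FractionRing A) ⟨f, hf0⟩
    have h1 : (z : FractionRing A) * algebraMap A (FractionRing A) f = 0 := congrArg Subtype.val hz
    apply Subtype.ext
    exact (hu.mul_left_eq_zero).mp h1
  have hf2 : algebraMap (Cl A) (Localization.AtPrime M) (algebraMap A (Cl A) f) ≠ 0 := by
    intro h0
    rw [IsLocalization.map_eq_zero_iff M.primeCompl] at h0
    obtain ⟨s, hs⟩ := h0
    have := (mem_nonZeroDivisors_iff_right.mp hf1) s hs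
    exact s.2 (by rw [this]; exact M.zero_mem)
  have hfM : algebraMap A (Cl A) f ∈ M := by
    have : f ∈ M.comap (algebraMap A (Cl A)) := by rw [comap_eq_maximalIdeal A M]; exact hfm
    exact this
  have hf3 : algebraMap (Cl A) (Localization.AtPrime M) (algebraMap A (Cl A) f) ∈
      maximalIdeal (Localization.AtPrime M) :=
    (IsLocalization.AtPrime.to_map_mem_maximal_iff (Localization.AtPrime M) M _).mpr hfM
  have hnf : ¬ IsField (Localization.AtPrime M) := by
    intro h
    have := (IsLocalRing.isField_iff_maximalIdeal_eq.mp h)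
    rw [this] at hf3
    exact hf2 hf3
  -- dimension one
  have key : ∀ P : Ideal (Localization.AtPrime M), P ≠ ⊥ → P.IsPrime → P = maximalIdeal (Localization.AtPrime M) := by
    intro P hP0 hP
    by_contra hmax
    have hlt : P < maximalIdeal (Localization.AtPrime M) := lt_of_le_of_ne (le_maximalIdeal hP.ne_top) hmax
    have hlt0 : (⊥ : Ideal (Localization.AtPrime M)) < P := bot_lt_iff_ne_bot.mpr hP0
    have hbot : (⊥ : Ideal (Localization.AtPrime M)).IsPrime := Ideal.isPrime_bot
    have hmono : ∀ I J : Ideal (Localization.AtPrime M), I < J →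
        I.under (Cl A) < J.under (Cl A) := by
      intro I J hIJ
      refine lt_of_le_of_ne (Ideal.comap_mono hIJ.le) ?_
      intro h
      apply hIJ.ne
      rw [← IsLocalization.map_under M.primeCompl _ I, ← IsLocalization.map_under M.primeCompl _ J, h]
    have h1 := hmono _ _ hlt
    have h0 := hmono _ _ hlt0
    have hPp : (P.under (Cl A)).IsPrime := inferInstance
    have hPb : ((⊥ : Ideal (Localization.AtPrime M)).under (Cl A)).IsPrime := inferInstance
    have h1' := Ideal.IsIntegral.comap_lt_comap (R := A) h1
    have h0' := Ideal.IsIntegral.comap_lt_comap (R := A) h0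
    rcases DimOne.mem_minimalPrimes_or hdim ((P.under (Cl A)).comap (algebraMap A (Cl A))) inferInstance
      with h3 | h3
    · exact absurd (h3.2 ⟨inferInstance, bot_le⟩ h0'.le) h0'.not_ge
    · apply h1'.not_ge
      rw [h3]
      apply le_maximalIdeal
      exact (inferInstance : ((maximalIdeal (Localization.AtPrime M)).under (Cl A)).comap
        (algebraMap A (Cl A)) |>.IsPrime).ne_top
  have h3 : IsIntegrallyClosed (Localization.AtPrime M) ∧
      ∃! P : Ideal (Localization.AtPrime M), P ≠ ⊥ ∧ P.IsPrime := by
    refine ⟨hic, maximalIdeal _, ⟨?_, inferInstance⟩, fun P hP => key P hP.1 hP.2⟩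
    intro h
    exact hnf (IsLocalRing.isField_iff_maximalIdeal_eq.mpr h)
  exact ((IsDiscreteValuationRing.TFAE (Localization.AtPrime M) hnf).out 3 0).mp h3

end K421.NormCl
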