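import Groth.Prelude.Def_Brnch
import Groth.Agent.Variety.K421.NormCl
import Groth.Agent.VarietyB.Delta
import Groth.Agent.Ega4B.NagBasic
import Mathlib.RingTheory.QuasiFinite.Basic
import Mathlib.LinearAlgebra.FreeModule.Finite.Matrix
import Mathlib.RingTheory.Ideal.Quotient.Operations
import Mathlib.RingTheory.Flat.Equalizer

/-!
# The delta invariant and the number of geometric branches
-/

set_option autoImplicit false
universe u

open IsLocalRing nonZeroDivisors

namespace K421.DeltaBranch

theorem finite_maximalSpectrum (A B : Type u) [CommRing A] [IsLocalRing A] [CommRing B] [Algebra A B]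
    [Module.Finite A B] : Finite (MaximalSpectrum B) := by
  have h := Algebra.QuasiFinite.finite_primesOver (S := B) (IsLocalRing.maximalIdeal A)
  have : Finite ((IsLocalRing.maximalIdeal A).primesOver B) := h
  have hover : ∀ m : MaximalSpectrum B, m.asIdeal.LiesOver (IsLocalRing.maximalIdeal A) := fun m => by
    constructor
    have := m.isMaximal
    have h1 : (m.asIdeal.comap (algebraMap A B)).IsMaximal :=
      Ideal.isMaximal_comap_of_isIntegral_of_isMaximal _
    exact (IsLocalRing.eq_maximalIdeal h1).symm
  let f : MaximalSpectrum B → (IsLocalRing.maximalIdeal A).primesOver B :=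
    fun m => ⟨m.asIdeal, m.isMaximal.isPrime, hover m⟩
  refine Finite.of_injective f fun m m' hm => MaximalSpectrum.ext ?_
  exact congrArg (fun x => x.1) hm

/-- Let `B` be a local ring, `C` a `B`-algebra; the sum of the lengths of the residue fields of `C` at finitely many
maximal ideals is at most one plus the length of `C/B`. -/
theorem sum_length_le (B C : Type u) [CommRing B] [IsLocalRing B] [CommRing C] [Algebra B C]
    {ι : Type u} [Fintype ι] (m : ι → MaximalSpectrum C) (hm : Function.Injective m)
    (hover : ∀ i, (m i).asIdeal.comap (algebraMap B C) = maximalIdeal B) :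
    ∑ i, Module.length B (C ⧸ (m i).asIdeal) ≤
      Module.length B (C ⧸ LinearMap.range (Algebra.linearMap B C)) + 1 := by
  classical
  let P := ∀ i, C ⧸ (m i).asIdeal
  let π : C →ₗ[B] P := LinearMap.pi fun i => (Ideal.Quotient.mkₐ B (m i).asIdeal).toLinearMap
  have hπ : Function.Surjective π := by
    have hcop : Pairwise fun i j => IsCoprime (m i).asIdeal (m j).asIdeal := by
      intro i j hij
      rw [Ideal.isCoprime_iff_sup_eq]
      exact Ideal.IsMaximal.coprime_of_ne (m i).isMaximal (m j).isMaximal
        (fun h => hij (hm (MaximalSpectrum.ext h)))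
    intro w
    obtain ⟨c, hc⟩ := Ideal.pi_quotient_surjective hcop w
    exact ⟨c, funext fun i => hc i⟩
  let N : Submodule B P := (LinearMap.range (Algebra.linearMap B C)).map π
  have h1 : Module.length B P = Module.length B N + Module.length B (P ⧸ N) :=
    Module.length_eq_add_of_exact N.subtype N.mkQ N.injective_subtype N.mkQ_surjective
      (LinearMap.exact_subtype_mkQ N)
  have h2 : Module.length B (P ⧸ N) ≤ Module.length B (C ⧸ LinearMap.range (Algebra.linearMap B C)) := by
    refine Module.length_le_of_surjective
      ((LinearMap.range (Algebra.linearMap B C)).mapQ N π (Submodule.le_comap_map _ _)) ?_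
    intro z
    obtain ⟨w, rfl⟩ := Submodule.Quotient.mk_surjective _ z
    obtain ⟨c, rfl⟩ := hπ w
    exact ⟨Submodule.Quotient.mk c, rfl⟩
  have h3 : Module.length B N ≤ 1 := by
    have h4 : Module.length B (B ⧸ maximalIdeal B) = 1 := by
      rw [Module.length_eq_one_iff]
      exact isSimpleModule_iff_isCoatom.mpr (maximalIdeal.isMaximal B).out
    rw [← h4]
    have hle : maximalIdeal B ≤ LinearMap.ker (π ∘ₗ Algebra.linearMap B C) := by
      intro b hb
      rw [LinearMap.mem_ker]
      funext i
      change Ideal.Quotient.mk (m i).asIdeal (algebraMap B C b) = 0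
      rw [Ideal.Quotient.eq_zero_iff_mem]
      have : b ∈ (m i).asIdeal.comap (algebraMap B C) := by rw [hover i]; exact hb
      exact this
    let g : (B ⧸ maximalIdeal B) →ₗ[B] P :=
      Submodule.liftQ (maximalIdeal B) (π ∘ₗ Algebra.linearMap B C) hle
    have hg : LinearMap.range g = N := by
      rw [Submodule.range_liftQ, LinearMap.range_comp]
    rw [← hg]
    exact Module.length_le_of_surjective g.rangeRestrict g.surjective_rangeRestrict
  rw [Module.length_pi_of_fintype] at h1
  rw [h1, add_comm]
  exact add_le_add h2 h3

/-- The number of embeddings of a finite extension is at most its length. -/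
theorem card_le_length (B L : Type u) [CommRing B] [IsLocalRing B] [Field L] [Algebra B L]
    [Module.Finite B L] (Ω : Type u) [Field Ω] (φ : B →+* Ω) (hφ : RingHom.ker φ = maximalIdeal B)
    (hker : RingHom.ker (algebraMap B L) = maximalIdeal B) :
    Finite {σ : L →+* Ω // σ.comp (algebraMap B L) = φ} ∧
    (Nat.card {σ : L →+* Ω // σ.comp (algebraMap B L) = φ} : ℕ∞) ≤ Module.length B L := by
  let κ := ResidueField B
  let ψ : κ →+* Ω := Ideal.Quotient.lift (maximalIdeal B) φ (fun a ha => by
    rw [← hφ] at ha; exact ha)
  let ρ : κ →+* L := Ideal.Quotient.lift (maximalIdeal B) (algebraMap B L) (fun a ha => by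
    rw [← hker] at ha; exact ha)
  let _ : Algebra κ Ω := ψ.toAlgebra
  let _ : Algebra κ L := ρ.toAlgebra
  have : IsScalarTower B κ L := IsScalarTower.of_algebraMap_eq fun b => rfl
  have hfin : Module.Finite κ L := Module.Finite.of_restrictScalars_finite B κ L
  let f : {σ : L →+* Ω // σ.comp (algebraMap B L) = φ} → (L →ₐ[κ] Ω) := fun σ =>
    { σ.1 with
      commutes' := fun c => by
        obtain ⟨b, rfl⟩ := residue_surjective c
        exact congrArg (fun h => h b) σ.2 }
  have hf : Function.Injective f := by
    intro σ τ h
    apply Subtype.ext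
    ext x
    exact congrArg (fun h : L →ₐ[κ] Ω => h x) h
  refine ⟨Finite.of_injective f hf, ?_⟩
  have h1 : Module.length B L = Module.length κ L :=
    Module.length_eq_of_surjective (residue_surjective (R := B))
  rw [h1, Module.length_eq_finrank]
  exact_mod_cast (Nat.card_le_card_of_injective f hf).trans (card_algHom_le_finrank κ L Ω)

theorem deltaInv_le_of_ringEquiv {A B : Type u} [CommRing A] [CommRing B] (e : A ≃+* B) :
    Curv2.deltaInv A ≤ Curv2.deltaInv B := by
  let _ : Algebra A B := e.toRingHom.toAlgebra
  let l : A ≃ₗ[A] B :=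
    { e with
      map_smul' := fun a x => by
        change e (a • x) = algebraMap A B a * e x
        rw [smul_eq_mul, map_mul]; rfl }
  have : Module.FaithfullyFlat A B := Module.FaithfullyFlat.of_linearEquiv A A l.symm
  exact Groth.Agent.VarietyB.Delta.deltaInv_le_of_faithfullyFlat A B

/-- The delta invariant is invariant under isomorphism. -/
theorem deltaInv_congr {A B : Type u} [CommRing A] [CommRing B] (e : A ≃+* B) :
    Curv2.deltaInv A = Curv2.deltaInv B :=
  le_antisymm (deltaInv_le_of_ringEquiv e) (deltaInv_le_of_ringEquiv e.symm)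

/-- The delta invariant is at least the number of geometric branches minus one. -/
theorem numGeomBranches_le (A : Type u) [CommRing A] [IsLocalRing A] [IsReduced A] (hN : CAlg.IsNagata A) :
    Brnch.numGeomBranches A ≤ Curv2.deltaInv A + 1 := by
  have hNoeth : IsNoetherianRing A := hN.1
  have hmin : (minimalPrimes A).Finite := minimalPrimes.finite_of_isNoetherianRing A
  have hbot : nilradical A = ⊥ := nilradical_eq_zero A
  let B := CAlg2.red A
  let e : A ≃+* B := RingEquiv.ofBijective (Ideal.Quotient.mk (nilradical A))
    ⟨by
      intro x y h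
      rw [Ideal.Quotient.eq, hbot, Ideal.mem_bot, sub_eq_zero] at h
      exact h, Ideal.Quotient.mk_surjective⟩
  have hlocB : IsLocalRing B := e.isLocalRing
  have hredB : IsReduced B := isReduced_of_injective e.symm.toRingHom e.symm.injective
  have hNB : CAlg.IsNagata B := Groth.Agent.Ega4B.NagBasic.isNagata_of_ringEquiv e hN
  have hfin : Module.Finite B (NormCl.Cl B) := NormCl.finite_cl B hNB
  have hfms : Finite (MaximalSpectrum (CAlg2.normRed A)) := finite_maximalSpectrum B (NormCl.Cl B)
  have : Fintype (MaximalSpectrum (CAlg2.normRed A)) := Fintype.ofFinite _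
  have h1 := sum_length_le B (NormCl.Cl B) (fun m : MaximalSpectrum (NormCl.Cl B) => m)
    Function.injective_id (fun m => by
      have := m.isMaximal
      exact NormCl.comap_eq_maximalIdeal B m.asIdeal)
  rw [deltaInv_congr e]
  refine le_trans ?_ h1
  unfold Brnch.numGeomBranches
  rw [if_pos hmin]
  have key : ∀ m : MaximalSpectrum (CAlg2.normRed A), Finite (Brnch.Emb A m) ∧
      (Nat.card (Brnch.Emb A m) : ℕ∞) ≤ Module.length B (CAlg2.normRed A ⧸ m.asIdeal) := by
    intro m
    have hm := m.isMaximal
    let _ : Field (CAlg2.normRed A ⧸ m.asIdeal) := Ideal.Quotient.field m.asIdeal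
    have hlift : ∀ a ∈ nilradical A, Brnch.toClosure A a = 0 := by
      intro a ha
      rw [hbot, Ideal.mem_bot] at ha
      rw [ha, map_zero]
    let φ : B →+* AlgebraicClosure (ResidueField A) :=
      Ideal.Quotient.lift (nilradical A) (Brnch.toClosure A) hlift
    have hφ : RingHom.ker φ = maximalIdeal B := by
      ext b
      obtain ⟨a, rfl⟩ := e.surjective b
      rw [mem_maximalIdeal, mem_nonunits_iff, MulEquiv.isUnit_map e, RingHom.mem_ker]
      have h3 : φ (e a) = algebraMap (ResidueField A) (AlgebraicClosure (ResidueField A)) (residue A a) := rfl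
      rw [h3, map_eq_zero, residue_eq_zero_iff, mem_maximalIdeal, mem_nonunits_iff]
    have hker : RingHom.ker (algebraMap B (CAlg2.normRed A ⧸ m.asIdeal)) = maximalIdeal B := by
      rw [← NormCl.comap_eq_maximalIdeal B m.asIdeal]
      ext b
      exact Ideal.Quotient.eq_zero_iff_mem
    have hfinL : Module.Finite B (CAlg2.normRed A ⧸ m.asIdeal) := inferInstance
    have h2 := card_le_length B (CAlg2.normRed A ⧸ m.asIdeal) (AlgebraicClosure (ResidueField A)) φ hφ hker
    let ε : Brnch.Emb A m ≃ {σ : CAlg2.normRed A ⧸ m.asIdeal →+* AlgebraicClosure (ResidueField A) //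
        σ.comp (algebraMap B (CAlg2.normRed A ⧸ m.asIdeal)) = φ} :=
      Equiv.subtypeEquivRight fun σ => by
        constructor
        · intro h
          apply RingHom.ext
          intro b
          obtain ⟨a, rfl⟩ := e.surjective b
          exact congrArg (fun f => f a) h
        · intro h
          ext a
          exact congrArg (fun f => f (e a)) h
    rw [Nat.card_congr ε]
    exact ⟨@Finite.of_equiv _ _ h2.1 ε.symm, h2.2⟩
  have : ∀ m : MaximalSpectrum (CAlg2.normRed A), Finite (Brnch.Emb A m) := fun m => (key m).1
  rw [ENat.card_eq_coe_natCard, Nat.card_sigma]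
  push_cast
  exact Finset.sum_le_sum fun m _ => (key m).2

end K421.DeltaBranch
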