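import Groth.Agent.Variety.K421.DvrTensor
import Groth.Agent.Variety.K421.NormCl
import Groth.Agent.VarietyB.Delta
import Groth.Agent.S2498

/-!
# The delta invariant does not change along flat local maps `A → B` with `m_A B = m_B` and separable residue extension
-/

set_option autoImplicit false
universe u

open IsLocalRing TensorProduct

namespace K421.DeltaBC

/-- A ring is normal as soon as its local rings at maximal ideals are integrally closed domains. -/
theorem isNormalRing_of_maximal (R : Type u) [CommRing R]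
    (h : ∀ (N : Ideal R) [N.IsMaximal],
      IsDomain (Localization.AtPrime N) ∧ IsIntegrallyClosed (Localization.AtPrime N)) :
    EGA4.IsNormalRing R := by
  intro p hp
  obtain ⟨N, hN, hpN⟩ := p.exists_le_maximal hp.ne_top
  obtain ⟨h1, h2⟩ := h N
  have key : ∀ (P : Ideal (Localization.AtPrime N)) (_ : P.IsPrime) (p' : Ideal R) (_ : p'.IsPrime),
      P.comap (algebraMap R (Localization.AtPrime N)) = p' →
      IsDomain (Localization.AtPrime p') ∧ IsIntegrallyClosed (Localization.AtPrime p') := by
    rintro P hP p' hp' rfl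
    let e := IsLocalization.localizationLocalizationAtPrimeIsoLocalization N.primeCompl P
    have hd : IsDomain (Localization.AtPrime P) :=
      IsLocalization.isDomain_localization P.primeCompl_le_nonZeroDivisors
    have hic : IsIntegrallyClosed (Localization.AtPrime P) :=
      isIntegrallyClosed_of_isLocalization (Localization.AtPrime P) P.primeCompl
        P.primeCompl_le_nonZeroDivisors
    exact ⟨e.toMulEquiv.isDomain (Localization.AtPrime P), IsIntegrallyClosed.of_equiv e.symm.toRingEquiv⟩
  let P := p.map (algebraMap R (Localization.AtPrime N))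
  have hdisj : Disjoint (N.primeCompl : Set R) (p : Set R) := by
    rw [Set.disjoint_left]
    intro x hx hxp
    exact hx (hpN hxp)
  have hP : P.IsPrime := IsLocalization.isPrime_of_isPrime_disjoint N.primeCompl _ p hp hdisj
  have hPc : P.comap (algebraMap R (Localization.AtPrime N)) = p :=
    IsLocalization.under_map_of_isPrime_disjoint N.primeCompl _ hp hdisj
  exact key P hP p hp hPc

variable (A B : Type u) [CommRing A] [CommRing B] [Algebra A B]

/-- The algebra map `B ⊗ A' → Q(B)`. -/
noncomputable def toFrac [Module.Flat A B] : B ⊗[A] NormCl.Cl A →ₐ[B] FractionRing B :=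
  (Groth.Agent.VarietyB.Delta.tensFrac A B).comp
    (Algebra.TensorProduct.map (AlgHom.id B B) (integralClosure A (FractionRing A)).val)

theorem toIntCl_apply [Module.Flat A B] (z : B ⊗[A] NormCl.Cl A) :
    (Groth.Agent.VarietyB.Delta.toIntCl A B z : FractionRing B) = toFrac A B z := rfl

theorem toFrac_injective [Module.Flat A B] : Function.Injective (toFrac A B) := by
  intro x y h
  apply Groth.Agent.VarietyB.Delta.toIntCl_injective A B
  exact Subtype.ext h

/-- If `B ⊗ A'` is normal then it is the normalization of `B`. -/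
theorem toIntCl_surjective [Module.Flat A B] (h : IsIntegrallyClosed (B ⊗[A] NormCl.Cl A)) :
    Function.Surjective (Groth.Agent.VarietyB.Delta.toIntCl A B) := by
  let R' : Subalgebra B (FractionRing B) := (toFrac A B).range
  have hfr : IsFractionRing R' (FractionRing B) :=
    Groth.Agent.Ega4C.NormalRing.isFractionRing_subalgebra R'
  let e : (B ⊗[A] NormCl.Cl A) ≃ₐ[B] R' := AlgEquiv.ofInjective _ (toFrac_injective A B)
  have hic : IsIntegrallyClosed R' := IsIntegrallyClosed.of_equiv e.toRingEquiv
  rw [isIntegrallyClosed_iff (FractionRing B)] at hic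
  intro z
  have h1 : IsIntegral R' (z : FractionRing B) := IsIntegral.tower_top (R := B) z.2
  obtain ⟨w, hw⟩ := hic h1
  obtain ⟨y, hy⟩ := w.2
  refine ⟨y, Subtype.ext ?_⟩
  rw [toIntCl_apply]
  exact hy.trans hw

omit [Algebra A B] in
theorem ker_baseChange_mkQ [Algebra A B] {M : Type u} [AddCommGroup M] [Module A M] (N : Submodule A M) :
    LinearMap.ker (N.mkQ.baseChange B) = N.baseChange B := by
  have hex : Function.Exact (N.subtype.lTensor B) (N.mkQ.lTensor B) :=
    lTensor_exact B (LinearMap.exact_subtype_mkQ N) N.mkQ_surjective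
  ext z
  constructor
  · intro hz
    obtain ⟨y, hy⟩ := (hex z).mp hz
    exact ⟨y, hy⟩
  · rintro ⟨y, hy⟩
    exact (hex z).mpr ⟨y, hy⟩

/-- `B'/B = B ⊗ A'/A` when `B' = B ⊗ A'`. -/
theorem nonempty_dl_equiv [Module.Flat A B] (h : IsIntegrallyClosed (B ⊗[A] NormCl.Cl A)) :
    Nonempty (NormCl.Dl B ≃ₗ[B] B ⊗[A] NormCl.Dl A) := by
  let τ := Groth.Agent.VarietyB.Delta.toIntCl A B
  let e : (B ⊗[A] NormCl.Cl A) ≃ₗ[B] NormCl.Cl B :=
    LinearEquiv.ofBijective τ ⟨Groth.Agent.VarietyB.Delta.toIntCl_injective A B, toIntCl_surjective A B h⟩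
  let N := LinearMap.range (Algebra.linearMap A (NormCl.Cl A))
  let q : (B ⊗[A] NormCl.Cl A) →ₗ[B] B ⊗[A] NormCl.Dl A := N.mkQ.baseChange B
  have hq : Function.Surjective q := LinearMap.lTensor_surjective B N.mkQ_surjective
  have hker : LinearMap.ker q = N.baseChange B := ker_baseChange_mkQ A B N
  have hmap : (N.baseChange B).map (e : (B ⊗[A] NormCl.Cl A) →ₗ[B] NormCl.Cl B) =
      LinearMap.range (Algebra.linearMap B (NormCl.Cl B)) :=
    Groth.Agent.VarietyB.Delta.submoduleMap_range A B
  have e1 : ((B ⊗[A] NormCl.Cl A) ⧸ N.baseChange B) ≃ₗ[B] NormCl.Dl B :=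
    Submodule.Quotient.equiv _ _ e hmap
  have e2 : ((B ⊗[A] NormCl.Cl A) ⧸ N.baseChange B) ≃ₗ[B] B ⊗[A] NormCl.Dl A :=
    (Submodule.quotEquivOfEq _ _ hker.symm).trans (q.quotKerEquivOfSurjective hq)
  exact ⟨e1.symm.trans e2⟩

/-- The delta invariant does not change under base change along a flat local map of Noetherian local rings of
dimension one with `m_A B = m_B` and separable algebraic residue field extension. -/
theorem deltaInv_baseChange [IsLocalRing A] [IsLocalRing B] [IsLocalHom (algebraMap A B)]
    [IsReduced A] [IsNoetherianRing A] [IsNoetherianRing B] [Module.Finite A (NormCl.Cl A)]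
    (hdim : ringKrullDim A = 1) [Module.Flat A B]
    (hm : (maximalIdeal A).map (algebraMap A B) = maximalIdeal B)
    [Algebra.IsSeparable (ResidueField A) (ResidueField B)] :
    Curv2.deltaInv B = Curv2.deltaInv A := by
  have hK := DimOne.krullDimLE_one A hdim
  have hnorm : EGA4.IsNormalRing (B ⊗[A] NormCl.Cl A) := by
    apply isNormalRing_of_maximal
    intro N hN
    obtain ⟨h1, h2⟩ := DvrTensor.dvr_tensor A B (NormCl.Cl A) hm
      (fun M hM => NormCl.isDiscreteValuationRing_cl A hdim M) N
    exact ⟨h1, inferInstance⟩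
  have hic := Groth.Agent.Ega4C.NormalRing.isIntegrallyClosed_of_isNormalRing _ hnorm
  obtain ⟨e⟩ := nonempty_dl_equiv A B hic
  rw [NormCl.deltaInv_eq, NormCl.deltaInv_eq, e.length_eq,
    Groth.Agent.S2498.length_eq_of_isFiniteLength B (NormCl.Dl A) (NormCl.isFiniteLength_dl A)]
  have h1 : Module.length B (B ⧸ ((maximalIdeal A).map (algebraMap A B) • (⊤ : Submodule B B))) = 1 := by
    rw [hm, Module.length_eq_one_iff, smul_eq_mul, Ideal.mul_top]
    exact isSimpleModule_iff_isCoatom.mpr (maximalIdeal.isMaximal B).out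
  rw [h1, mul_one]

end K421.DeltaBC
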