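import Groth.Agent.Variety.K421.NormFib
import Groth.Agent.UnramA.Unibranch

/-!
# `normRed` of a localization of a domain is the localization of the integral closure
-/

set_option autoImplicit false
universe u v w

open IsLocalRing

namespace K421.NormLoc

/-- Integral closures and localization, in the form used here: `C` is the integral closure of the domain `B`
in a fraction field `F`, `A = B_p`; then `normRed A` is the localization of `C` at `B ∖ p`. -/
theorem exists_localization (B C A : Type u) (F : Type v) [CommRing B] [IsDomain B] [CommRing C] [Algebra B C]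
    [CommRing A] [Algebra B A] [CommRing F] [Algebra B F] [IsFractionRing B F]
    (ε : C ≃+* integralClosure B F) (hε : ∀ b, ε (algebraMap B C b) = algebraMap B _ b)
    (p : Ideal B) [p.IsPrime] [IsLocalization.AtPrime A p] :
    ∃ (_ : Algebra C (CAlg2.normRed A)),
      (∀ b : B, algebraMap C (CAlg2.normRed A) (algebraMap B C b) =
        algebraMap A (CAlg2.normRed A) (algebraMap B A b)) ∧
      IsLocalization (Algebra.algebraMapSubmonoid C p.primeCompl) (CAlg2.normRed A) := by
  have hA : IsDomain A := IsLocalization.isDomain_of_atPrime A p
  let _ : Field F := IsFractionRing.toField B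
  have hunit : ∀ y : p.primeCompl, IsUnit (algebraMap B F y) := by
    intro y
    apply IsUnit.mk0
    intro h0
    rw [map_eq_zero_iff _ (IsFractionRing.injective B F)] at h0
    exact y.2 (h0 ▸ p.zero_mem)
  let _ : Algebra A F := (IsLocalization.lift hunit : A →+* F).toAlgebra
  have hBAF : IsScalarTower B A F := IsScalarTower.of_algebraMap_eq fun b =>
    (IsLocalization.lift_eq hunit b).symm
  have hfr : IsFractionRing A F :=
    IsFractionRing.isFractionRing_of_isDomain_of_isLocalization p.primeCompl A F
  obtain ⟨e, he⟩ := Groth.Agent.UnramA.Unibranch.exists_equiv_normRed A F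
  let incl : integralClosure B F →+* integralClosure A F :=
    { toFun := fun x => ⟨x.1, x.2.tower_top⟩
      map_one' := rfl
      map_mul' := fun _ _ => rfl
      map_zero' := rfl
      map_add' := fun _ _ => rfl }
  let _ : Algebra (integralClosure B F) (integralClosure A F) := incl.toAlgebra
  have h1 : IsScalarTower (integralClosure B F) (integralClosure A F) F :=
    IsScalarTower.of_algebraMap_eq fun x => rfl
  have h2 : IsScalarTower B (integralClosure B F) (integralClosure A F) :=
    IsScalarTower.of_algebraMap_eq fun x => by
      apply Subtype.ext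
      rfl
  have h3 : IsLocalization (Algebra.algebraMapSubmonoid F p.primeCompl) F := by
    apply IsLocalization.self
    rintro _ ⟨y, hy, rfl⟩
    exact hunit ⟨y, hy⟩
  have h4 : IsLocalization (Algebra.algebraMapSubmonoid (integralClosure B F) p.primeCompl)
      (integralClosure A F) := IsLocalization.integralClosure p.primeCompl
  let alg1 : Algebra (integralClosure B F) (CAlg2.normRed A) :=
    (e.symm.toRingHom.comp (algebraMap (integralClosure B F) (integralClosure A F))).toAlgebra
  have h5 : IsLocalization (Algebra.algebraMapSubmonoid (integralClosure B F) p.primeCompl)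
      (CAlg2.normRed A) :=
    (IsLocalization.isLocalization_iff_of_ringEquiv _ e.symm).mp h4
  let alg2 : Algebra C (CAlg2.normRed A) := ((algebraMap (integralClosure B F) (CAlg2.normRed A)).comp
    ε.toRingHom).toAlgebra
  refine ⟨alg2, ?_, ?_⟩
  · intro b
    have h6 : algebraMap C (CAlg2.normRed A) (algebraMap B C b) =
      e.symm (incl (ε (algebraMap B C b))) := rfl
    rw [h6, hε, RingEquiv.symm_apply_eq]
    have h7 := he (algebraMap B A b)
    have h8 : algebraMap (CAlg2.red A) (CAlg2.normRed A) (Ideal.Quotient.mk (nilradical A) (algebraMap B A b)) =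
      algebraMap A (CAlg2.normRed A) (algebraMap B A b) := rfl
    rw [← h8, h7]
    apply Subtype.ext
    exact IsScalarTower.algebraMap_apply B A F b
  · refine IsLocalization.of_ringEquiv_left (M₁ := Algebra.algebraMapSubmonoid (integralClosure B F) p.primeCompl)
      ε ?_ (fun x => rfl)
    ext x
    constructor
    · rintro ⟨_, ⟨y, hy, rfl⟩, rfl⟩
      exact ⟨y, hy, (hε y).symm⟩
    · rintro ⟨y, hy, rfl⟩
      exact ⟨_, ⟨y, hy, rfl⟩, hε y⟩

end K421.NormLoc
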