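import Groth.Prelude.Def_Brnch
import Groth.Prelude.Def_Curv2
import Groth.Agent.Variety.K421.NormLoc
import Groth.Agent.Variety.K424.NormDimOne
import Groth.Agent.UnramB.SmoothUnibranch

/-!
# The fibre of the normalization of an integral scheme and branches
-/

set_option autoImplicit false
universe u
open CategoryTheory CategoryTheory.Limits AlgebraicGeometry TopologicalSpace IsLocalRing Groth.Agent

namespace K421.NormFibSch

/-- Embeddings of `κ(O)` over `κ(A)`, counted in `AlgebraicClosure κ(O)` or in `AlgebraicClosure κ(A)`. -/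
theorem card_emb_residue (A O : Type u) [CommRing A] [IsLocalRing A] [CommRing O] [IsLocalRing O] (f : A →+* O)
    [alg : Algebra (ResidueField A) (ResidueField O)]
    (hg : ∀ a, algebraMap (ResidueField A) (ResidueField O) (residue A a) = residue O (f a))
    [Algebra.IsAlgebraic (ResidueField A) (ResidueField O)] :
    ENat.card (Field.Emb (ResidueField A) (ResidueField O)) =
      ENat.card {τ : ResidueField O →+* AlgebraicClosure (ResidueField A) //
        τ.comp ((residue O).comp f) = Brnch.toClosure A} := by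
  let e1 : Field.Emb (ResidueField A) (ResidueField O) ≃
      (ResidueField O →ₐ[ResidueField A] AlgebraicClosure (ResidueField A)) :=
    Field.embEquivOfIsAlgClosed _ _ _
  refine (ENat.card_congr e1).trans (ENat.card_congr ?_)
  exact
    { toFun := fun σ => ⟨σ.toRingHom, by
        ext a
        change σ (residue O (f a)) = algebraMap (ResidueField A) (AlgebraicClosure (ResidueField A)) (residue A a)
        rw [← hg, AlgHom.commutes]⟩
      invFun := fun τ =>
        { toRingHom := τ.1
          commutes' := fun z => by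
            obtain ⟨a, rfl⟩ := residue_surjective z
            rw [hg]
            exact congrArg (fun f => f a) τ.2 }
      left_inv := fun σ => rfl
      right_inv := fun τ => rfl }

section

variable {X : Scheme.{u}}

theorem primeIdealOf_bijective {U : X.Opens} (hU : IsAffineOpen U) : Function.Bijective hU.primeIdealOf :=
  hU.isoSpec.hom.homeomorph.bijective

theorem comap_eq {Y : Scheme.{u}} (f : Y ⟶ X) {U : X.Opens} (hU : IsAffineOpen U) (hV : IsAffineOpen (f ⁻¹ᵁ U))
    (y : Y) (x : X) (h : f y = x) (hx : x ∈ U) (hy : y ∈ f ⁻¹ᵁ U) :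
    (hV.primeIdealOf ⟨y, hy⟩).asIdeal.comap (f.app U).hom = (hU.primeIdealOf ⟨x, hx⟩).asIdeal := by
  subst h
  have h1 := congrArg PrimeSpectrum.asIdeal
    (IsAffineOpen.comap_primeIdealOf_appLE (f := f) (x := y) U hU (f ⁻¹ᵁ U) hV le_rfl hy)
  rw [Scheme.Hom.appLE_eq_app] at h1
  exact h1

/-- Points of `Y` over `x` and primes of `Γ(Y, f⁻¹U)` over the prime of `x`. -/
noncomputable def ptEquiv {Y : Scheme.{u}} (f : Y ⟶ X) {U : X.Opens} (hU : IsAffineOpen U)
    (hV : IsAffineOpen (f ⁻¹ᵁ U)) (x : X) (hx : x ∈ U) :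
    {y : Y // f y = x} ≃ {q : PrimeSpectrum Γ(Y, f ⁻¹ᵁ U) //
      q.asIdeal.comap (f.app U).hom = (hU.primeIdealOf ⟨x, hx⟩).asIdeal} :=
  Equiv.ofBijective (fun y => ⟨hV.primeIdealOf ⟨y.1, by
    change f y.1 ∈ U
    rw [y.2]
    exact hx⟩, comap_eq f hU hV y.1 x y.2 hx _⟩) (by
    constructor
    · rintro ⟨y, hy⟩ ⟨y', hy'⟩ h
      have h1 := (primeIdealOf_bijective hV).1 (congrArg Subtype.val h)
      have h2 : y = y' := congrArg Subtype.val h1
      exact Subtype.ext h2
    · rintro ⟨q, hq⟩
      obtain ⟨⟨y, hy⟩, rfl⟩ := (primeIdealOf_bijective hV).2 q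
      have h1 := comap_eq f hU hV y (f y) rfl hy hy
      have h2 : hU.primeIdealOf ⟨f y, hy⟩ = hU.primeIdealOf ⟨x, hx⟩ :=
        PrimeSpectrum.ext (h1.symm.trans hq)
      have h3 := (primeIdealOf_bijective hU).1 h2
      exact ⟨⟨y, congrArg Subtype.val h3⟩, rfl⟩)

end

section

variable (X : Scheme.{u}) [IsIntegral X]
    [QuasiCompact (X.fromSpecStalk (genericPoint X))] [QuasiSeparated (X.fromSpecStalk (genericPoint X))]

/-- `normRed O_{X,x}` is the localization of the sections of the normalization over `U`. -/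
theorem exists_algebra (U : X.Opens) (hU : IsAffineOpen U) (x : X) (hx : x ∈ U) :
    letI := ((Curv2.normalizationι X).app U).hom.toAlgebra
    ∃ (_ : Algebra Γ(Curv2.normalization X, Curv2.normalizationι X ⁻¹ᵁ U) (CAlg2.normRed (X.presheaf.stalk x))),
      (∀ b : Γ(X, U), algebraMap Γ(Curv2.normalization X, Curv2.normalizationι X ⁻¹ᵁ U)
          (CAlg2.normRed (X.presheaf.stalk x)) (((Curv2.normalizationι X).app U).hom b) =
        algebraMap (X.presheaf.stalk x) (CAlg2.normRed (X.presheaf.stalk x)) ((X.presheaf.germ U x hx).hom b)) ∧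
      IsLocalization (Algebra.algebraMapSubmonoid Γ(Curv2.normalization X, Curv2.normalizationι X ⁻¹ᵁ U)
        (hU.primeIdealOf ⟨x, hx⟩).asIdeal.primeCompl) (CAlg2.normRed (X.presheaf.stalk x)) := by
  let f := X.fromSpecStalk (genericPoint X)
  let B := Γ(X, U)
  let C := Γ(Curv2.normalization X, Curv2.normalizationι X ⁻¹ᵁ U)
  let F := Γ(Spec (X.presheaf.stalk (genericPoint X)), f ⁻¹ᵁ U)
  letI algBC : Algebra B C := ((Curv2.normalizationι X).app U).hom.toAlgebra
  letI algBF : Algebra B F := (f.app U).hom.toAlgebra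
  letI algBA : Algebra B (X.presheaf.stalk x) := TopCat.Presheaf.algebra_section_stalk X.presheaf ⟨x, hx⟩
  have hne : Nonempty U := ⟨⟨x, hx⟩⟩
  have hη : genericPoint X ∈ U := (genericPoint_specializes x).mem_open U.2 hx
  have hBdom : IsDomain B := inferInstance
  have hfr : IsFractionRing B F := K424.NormDimOne.isFractionRing X U hU hη
  let e : C ≅ CommRingCat.of (integralClosure B F) := f.normalizationObjIso hU
  have he : ((Curv2.normalizationι X).app U) = CommRingCat.ofHom (algebraMap B (integralClosure B F)) ≫ e.inv :=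
    f.fromNormalization_app hU
  have hloc : IsLocalization.AtPrime (X.presheaf.stalk x) (hU.primeIdealOf ⟨x, hx⟩).asIdeal :=
    hU.isLocalization_stalk ⟨x, hx⟩
  obtain ⟨a1, h1, h2⟩ := NormLoc.exists_localization B C (X.presheaf.stalk x) F e.commRingCatIsoToRingEquiv
    (fun b => by
      change e.hom.hom (((Curv2.normalizationι X).app U).hom b) = _
      rw [he]
      change (e.inv ≫ e.hom).hom _ = _
      rw [e.inv_hom_id]
      rfl) (hU.primeIdealOf ⟨x, hx⟩).asIdeal
  exact ⟨a1, h1, h2⟩

/-- Embeddings of the residue field of a point `x'` of the normalization over `x`, and of the residue field of the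
corresponding maximal ideal of `normRed O_{X,x}`. -/
theorem card_emb (U : X.Opens) (hU : IsAffineOpen U) (hV : IsAffineOpen (Curv2.normalizationι X ⁻¹ᵁ U))
    (x' : Curv2.normalization X) (x : X) (h : (Curv2.normalizationι X) x' = x)
    (hx : x ∈ U) (hx' : x' ∈ Curv2.normalizationι X ⁻¹ᵁ U)
    (algCD : Algebra Γ(Curv2.normalization X, Curv2.normalizationι X ⁻¹ᵁ U)
      (CAlg2.normRed (X.presheaf.stalk x)))
    (hj : ∀ b : Γ(X, U), algebraMap Γ(Curv2.normalization X, Curv2.normalizationι X ⁻¹ᵁ U)
          (CAlg2.normRed (X.presheaf.stalk x)) (((Curv2.normalizationι X).app U).hom b) =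
        algebraMap (X.presheaf.stalk x) (CAlg2.normRed (X.presheaf.stalk x)) ((X.presheaf.germ U x hx).hom b))
    (hloc : @IsLocalization _ _ ((hU.primeIdealOf ⟨x, hx⟩).asIdeal.primeCompl.map
      ((Curv2.normalizationι X).app U).hom) (CAlg2.normRed (X.presheaf.stalk x)) _ algCD)
    (N : MaximalSpectrum (CAlg2.normRed (X.presheaf.stalk x)))
    (hN : N.asIdeal.comap (algebraMap Γ(Curv2.normalization X, Curv2.normalizationι X ⁻¹ᵁ U)
          (CAlg2.normRed (X.presheaf.stalk x))) = (hV.primeIdealOf ⟨x', hx'⟩).asIdeal) :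
    (letI := ((Curv2.normalizationι X).residueFieldMap x').hom.toAlgebra
     ENat.card (Field.Emb (X.residueField ((Curv2.normalizationι X).base x'))
             ((Curv2.normalization X).residueField x'))) =
      ENat.card (Brnch.Emb (X.presheaf.stalk x) N) := by
  subst h
  let nu := Curv2.normalizationι X
  let A := X.presheaf.stalk (nu x')
  let O := (Curv2.normalization X).presheaf.stalk x'
  let B := Γ(X, U)
  let C := Γ(Curv2.normalization X, nu ⁻¹ᵁ U)
  let D := CAlg2.normRed A
  let algBC : Algebra B C := (nu.app U).hom.toAlgebra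
  let algBA : Algebra B A := TopCat.Presheaf.algebra_section_stalk X.presheaf ⟨nu x', hx⟩
  let algCO : Algebra C O := TopCat.Presheaf.algebra_section_stalk _ ⟨x', hx'⟩
  let algAO : Algebra A O := (nu.stalkMap x').hom.toAlgebra
  let algBD : Algebra B D := ((algebraMap A D).comp (algebraMap B A)).toAlgebra
  let algBO : Algebra B O := ((algebraMap A O).comp (algebraMap B A)).toAlgebra
  have t1 : IsScalarTower B A D := IsScalarTower.of_algebraMap_eq fun _ => rfl
  have t2 : IsScalarTower B C D := IsScalarTower.of_algebraMap_eq fun b => (hj b).symm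
  have t3 : IsScalarTower B A O := IsScalarTower.of_algebraMap_eq fun _ => rfl
  have t4 : IsScalarTower B C O := IsScalarTower.of_algebraMap_eq fun b => by
    have h1 := nu.germ_stalkMap U x' hx'
    exact congrArg (fun g => g.hom b) h1
  let p := (hU.primeIdealOf ⟨nu x', hx⟩).asIdeal
  let q := (hV.primeIdealOf ⟨x', hx'⟩).asIdeal
  have l1 : IsLocalization.AtPrime A p := hU.isLocalization_stalk ⟨nu x', hx⟩
  have l2 : IsLocalization.AtPrime O q := hV.isLocalization_stalk ⟨x', hx'⟩
  have l3 : IsLocalization (Algebra.algebraMapSubmonoid C p.primeCompl) D := hloc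
  have hint : Algebra.IsIntegral A D := UnramB.SmoothUnibranch.isIntegral_normRed
  have hq : q.comap (algebraMap B C) = p := comap_eq nu hU hV x' (nu x') rfl hx hx'
  obtain ⟨ψ, hψ, hψC, hψA⟩ := NormFib.exists_residue B A C D O p q hq
  obtain ⟨e⟩ := NormFib.nonempty_emb_equiv B A C D O p q hq (Brnch.toClosure A) N.asIdeal hN
  let alg : Algebra (ResidueField A) (ResidueField O) := (nu.residueFieldMap x').hom.toAlgebra
  have hg : ∀ a, algebraMap (ResidueField A) (ResidueField O) (residue A a) = residue O ((nu.stalkMap x').hom a) := by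
    intro a
    exact congrArg (fun g => g.hom a) (Scheme.residue_residueFieldMap nu x')
  have halg : Algebra.IsAlgebraic (ResidueField A) (ResidueField O) := by
    have : Algebra.IsIntegral (ResidueField A) (ResidueField O) := by
      refine ⟨fun z => ?_⟩
      obtain ⟨d, rfl⟩ := hψ z
      obtain ⟨P, hP, hP'⟩ := hint.isIntegral d
      refine ⟨P.map (residue A), hP.map _, ?_⟩
      have h1 : (algebraMap (ResidueField A) (ResidueField O)).comp (residue A) = ψ.comp (algebraMap A D) := by
        rw [hψA]
        ext a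
        exact hg a
      rw [Polynomial.eval₂_map, h1, ← Polynomial.hom_eval₂, hP', map_zero]
    infer_instance
  have h1 := card_emb_residue A O (nu.stalkMap x').hom hg
  exact h1.trans (ENat.card_congr e).symm

theorem exists_equiv (x : X) :
    ∃ e : {x' : ↥(Curv2.normalization X) // (Curv2.normalizationι X).base x' = x} ≃
        MaximalSpectrum (CAlg2.normRed (X.presheaf.stalk x)),
      ∀ x' : {x' : ↥(Curv2.normalization X) // (Curv2.normalizationι X).base x' = x},
        (letI := ((Curv2.normalizationι X).residueFieldMap x'.1).hom.toAlgebra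
         ENat.card (Field.Emb (X.residueField ((Curv2.normalizationι X).base x'.1))
             ((Curv2.normalization X).residueField x'.1))) =
        ENat.card (Brnch.Emb (X.presheaf.stalk x) (e x')) := by
  obtain ⟨U, hU, hx, -⟩ := exists_isAffineOpen_mem_and_subset (x := x) (U := (⊤ : X.Opens)) trivial
  have hV : IsAffineOpen (Curv2.normalizationι X ⁻¹ᵁ U) := by
    have : IsIntegralHom (Curv2.normalizationι X) := K424.NormDimOne.isIntegralHom_normalizationι X
    exact hU.preimage _
  let nu := Curv2.normalizationι X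
  let A := X.presheaf.stalk x
  let B := Γ(X, U)
  let C := Γ(Curv2.normalization X, nu ⁻¹ᵁ U)
  let D := CAlg2.normRed A
  let algBC : Algebra B C := (nu.app U).hom.toAlgebra
  obtain ⟨algCD, hj, hloc⟩ := exists_algebra X U hU x hx
  let algBA : Algebra B A := TopCat.Presheaf.algebra_section_stalk X.presheaf ⟨x, hx⟩
  let algBD : Algebra B D := ((algebraMap A D).comp (algebraMap B A)).toAlgebra
  have t1 : IsScalarTower B A D := IsScalarTower.of_algebraMap_eq fun _ => rfl
  have t2 : IsScalarTower B C D := IsScalarTower.of_algebraMap_eq fun b => (hj b).symm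
  let p := (hU.primeIdealOf ⟨x, hx⟩).asIdeal
  have l1 : IsLocalization.AtPrime A p := hU.isLocalization_stalk ⟨x, hx⟩
  have hint : Algebra.IsIntegral A D := UnramB.SmoothUnibranch.isIntegral_normRed
  have l3 : IsLocalization (Algebra.algebraMapSubmonoid C p.primeCompl) D := hloc
  let e1 : MaximalSpectrum D ≃ {q : PrimeSpectrum C // q.asIdeal.comap (algebraMap B C) = p} :=
    Equiv.ofBijective (NormFib.toPrime A C p (D := D)) (NormFib.toPrime_bijective p)
  let e2 : {y : Curv2.normalization X // nu y = x} ≃ {q : PrimeSpectrum C // q.asIdeal.comap (algebraMap B C) = p} :=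
    ptEquiv nu hU hV x hx
  refine ⟨e2.trans e1.symm, ?_⟩
  rintro ⟨x', h⟩
  have hx' : x' ∈ nu ⁻¹ᵁ U := by
    change nu x' ∈ U
    have h' : nu x' = x := h
    rw [h']
    exact hx
  have hN : e1 ((e2.trans e1.symm) ⟨x', h⟩) = e2 ⟨x', h⟩ := e1.apply_symm_apply _
  exact card_emb X U hU hV x' x h hx hx' algCD hj hloc _
    (congrArg (fun z => z.1.asIdeal) hN)

end

end K421.NormFibSch
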