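import Groth.Agent.Brnch.K580.FlatLe
import Groth.Agent.Brnch.K580.SumMin
import Groth.Agent.Brnch.K580.Unibranch
import Groth.Agent.SchFin.K868.GeomPt
import Groth.Agent.Ega4C.GeomUnibranchMain
import Groth.Agent.CalgC.GeomUnibranchSH2
import Groth.Agent.CalgC.GeomUnibranchAscend
import Groth.Agent.Flat2G.EtUnibranch
import Groth.Agent.Pi1.H409.QuotTower

/-!
# The number of geometric branches does not change under extension of the base field
-/

set_option autoImplicit false
universe u

open IsLocalRing TensorProduct Brnch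

namespace K421.GeoBranchBC

theorem isSepClosed_of_ringEquiv {K L : Type*} [Field K] [Field L] (e : K ≃+* L) [IsSepClosed K] :
    IsSepClosed L := by
  refine ⟨fun p hp => ?_⟩
  have h1 : (p.map e.symm.toRingHom).Separable := hp.map
  have h2 := (IsSepClosed.splits_of_separable (p.map e.symm.toRingHom) h1).map e.toRingHom
  rw [Polynomial.map_map] at h2
  have h3 : e.toRingHom.comp e.symm.toRingHom = RingHom.id L := RingHom.ext fun x => e.apply_symm_apply x
  rwa [h3, Polynomial.map_id] at h2

theorem isGeomUnibranch_quot (S : Type u) [CommRing S] [HenselianLocalRing S] [IsSepClosed (ResidueField S)]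
    (p : Ideal S) [hp : p.IsPrime] [IsLocalRing (S ⧸ p)] : CAlg2.IsGeomUnibranch (S ⧸ p) := by
  have hH : HenselianLocalRing (S ⧸ p) := Groth.Agent.Pi1.H409.QuotTower.henselianLocalRing_quotient S p hp.ne_top
  have hsep : IsSepClosed (ResidueField (S ⧸ p)) := by
    have hs : Function.Surjective (Ideal.Quotient.mk p) := Ideal.Quotient.mk_surjective
    have hl : IsLocalHom (Ideal.Quotient.mk p) := IsLocalHom.of_surjective _ hs
    exact isSepClosed_of_ringEquiv (RingEquiv.ofBijective (ResidueField.map (Ideal.Quotient.mk p))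
      ⟨RingHom.injective _, K580.SumMin.residueField_map_surjective _ hs⟩)
  have hnil : (nilradical (S ⧸ p)).IsPrime := by
    rw [nilradical_eq_zero]
    exact Ideal.isPrime_bot
  refine Groth.Agent.CalgC.GeomUnibranchSH2.isGeomUnibranch_of_isPrime_nilradical (A := S ⧸ p) (S := S ⧸ p) hnil ?_
  intro _
  exact isReduced_of_injective (Algebra.TensorProduct.lid (S ⧸ p) (FractionRing (CAlg2.red (S ⧸ p)))).toRingHom
    (Algebra.TensorProduct.lid (S ⧸ p) (FractionRing (CAlg2.red (S ⧸ p)))).injective

theorem of_surjective {C R' : Type u} [CommRing C] [CommRing R'] [IsLocalRing R'] (ρ : C →+* R')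
    (hρ : Function.Surjective ρ) (hR : CAlg2.IsGeomUnibranch R') [hl : IsLocalRing (C ⧸ (nilradical R').comap ρ)] :
    CAlg2.IsGeomUnibranch (C ⧸ (nilradical R').comap ρ) := by
  let e : (C ⧸ (nilradical R').comap ρ) ≃+* CAlg2.red R' :=
    RingEquiv.ofBijective (Ideal.quotientMap (nilradical R') ρ le_rfl)
      ⟨Ideal.quotientMap_injective, Ideal.quotientMap_surjective hρ⟩
  have h1 := Groth.Agent.CalgC.GeomUnibranchAscend.isGeomUnibranch_red R' hR
  exact Groth.Agent.Flat2G.EtUnibranch.isGeomUnibranch_of_ringEquiv e.symm h1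

/-- Abstract local step: `π : M → T` surjective, `q = π⁻¹ q'`, `T_{q'}` geometrically unibranch. Then there is a
smallest prime of `M_q` containing `ker π`, and the quotient by it is geometrically unibranch. -/
theorem exists_prime_abs {M T C R' : Type u} [CommRing M] [CommRing T] [CommRing C] [CommRing R'] (π : M →+* T)
    (hπ : Function.Surjective π) (q : Ideal M) [q.IsPrime] (q' : Ideal T) [q'.IsPrime] (hq'c : q'.comap π = q)
    [Algebra M C] [IsLocalization.AtPrime C q] [Algebra T R'] [IsLocalization.AtPrime R' q'] [IsLocalRing R']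
    (hR : CAlg2.IsGeomUnibranch R') :
    ∃ c : Ideal C, c.IsPrime ∧
      (∀ c' : Ideal C, c'.IsPrime → RingHom.ker π ≤ c'.comap (algebraMap M C) → c ≤ c') ∧
      ∀ [IsLocalRing (C ⧸ c)], CAlg2.IsGeomUnibranch (C ⧸ c) := by
  have hle : q.primeCompl ≤ q'.primeCompl.comap π := by
    intro x hx h
    apply hx
    rw [← hq'c]
    exact h
  let ρ : C →+* R' := IsLocalization.map R' π hle
  have hρ : Function.Surjective ρ := by
    intro z
    obtain ⟨t', s', rfl⟩ := IsLocalization.exists_mk'_eq q'.primeCompl z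
    obtain ⟨t, rfl⟩ := hπ t'
    obtain ⟨s', hs'⟩ := s'
    obtain ⟨s, rfl⟩ := hπ s'
    have hs : s ∈ q.primeCompl := fun h => hs' (by
      rw [← hq'c] at h
      exact h)
    exact ⟨IsLocalization.mk' C t ⟨s, hs⟩, IsLocalization.map_mk' hle _ _⟩
  have hρker : ∀ c' : Ideal C, c'.IsPrime → RingHom.ker π ≤ c'.comap (algebraMap M C) → RingHom.ker ρ ≤ c' := by
    intro c' hc' hc z hz
    obtain ⟨t, s, rfl⟩ := IsLocalization.exists_mk'_eq q.primeCompl z
    have h1 : algebraMap T R' (π t) = 0 := by
      have h2 : ρ (IsLocalization.mk' C t s * algebraMap M C s) = 0 := by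
        rw [map_mul, (RingHom.mem_ker).mp hz, zero_mul]
      rw [IsLocalization.mk'_spec] at h2
      rw [← h2]
      exact (IsLocalization.map_eq hle _).symm
    obtain ⟨⟨m, hm⟩, hmt⟩ := (IsLocalization.map_eq_zero_iff q'.primeCompl R' _).mp h1
    obtain ⟨m, rfl⟩ := hπ m
    have hm' : m ∈ q.primeCompl := fun h => hm (by
      rw [← hq'c] at h
      exact h)
    have h4 : algebraMap M C (m * t) ∈ c' := by
      apply hc
      rw [RingHom.mem_ker, map_mul]
      exact hmt
    rw [map_mul] at h4
    have h7 : IsUnit (algebraMap M C m) := IsLocalization.map_units C ⟨m, hm'⟩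
    have h8 := (Ideal.unit_mul_mem_iff_mem _ h7).mp h4
    rw [IsLocalization.mk'_eq_mul_mk'_one]
    exact Ideal.mul_mem_right _ _ h8
  have hdom : IsDomain (CAlg2.red R') := hR.1.1
  have hnil : (nilradical R').IsPrime := (Ideal.Quotient.isDomain_iff_prime _).mp hdom
  refine ⟨(nilradical R').comap ρ, Ideal.comap_isPrime _ _, ?_, ?_⟩
  · intro c' hc' hpc' x hx
    rw [Ideal.mem_comap, mem_nilradical] at hx
    obtain ⟨n, hn⟩ := hx
    rw [← map_pow] at hn
    exact hc'.mem_of_pow_mem n (hρker c' hc' hpc' hn)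
  · intro _
    exact of_surjective ρ hρ hR

section

variable (k S K : Type u) [Field k] [CommRing S] [IsLocalRing S] [Algebra k S] [Field K] [Algebra k K]
  (q : Ideal (S ⊗[k] K)) [q.IsPrime] (C : Type u) [CommRing C] [Algebra (S ⊗[k] K) C] [IsLocalization.AtPrime C q]
  [Algebra S C] [IsScalarTower S (S ⊗[k] K) C]

include q in
/-- The main local statement: for a prime `p` of `S` with `S/p` geometrically unibranch, there is a smallest prime
of `(S ⊗ K)_q` over `p`, and the quotient by it is geometrically unibranch. -/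
theorem exists_prime (hq : q.comap (algebraMap S (S ⊗[k] K)) = maximalIdeal S) (p : Ideal S) [hp : p.IsPrime]
    [IsLocalRing (S ⧸ p)] (hGU : CAlg2.IsGeomUnibranch (S ⧸ p)) :
    ∃ c : Ideal C, c.IsPrime ∧
      (∀ c' : Ideal C, c'.IsPrime → p ≤ c'.comap (algebraMap S C) → c ≤ c') ∧
      ∀ [IsLocalRing (C ⧸ c)], CAlg2.IsGeomUnibranch (C ⧸ c) := by
  let π₀ : S →ₐ[k] S ⧸ p := Ideal.Quotient.mkₐ k p
  have hπ₀ : Function.Surjective π₀ := Ideal.Quotient.mkₐ_surjective k p
  let T := (S ⧸ p) ⊗[k] K
  let π : S ⊗[k] K →ₐ[k] T := Algebra.TensorProduct.map π₀ (AlgHom.id k K)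
  have hπ : Function.Surjective π := TensorProduct.map_surjective hπ₀ Function.surjective_id
  have hker : RingHom.ker π = p.map (Algebra.TensorProduct.includeLeft : S →ₐ[k] S ⊗[k] K) := by
    have h1 := Algebra.TensorProduct.rTensor_ker (R := k) (C := K) π₀ hπ₀
    have h2 : RingHom.ker π₀ = p := Ideal.Quotient.mkₐ_ker k p
    rw [h2] at h1
    exact h1
  have hpm : p ≤ maximalIdeal S := le_maximalIdeal hp.ne_top
  have hkq : RingHom.ker π ≤ q := by
    rw [hker, Ideal.map_le_iff_le_comap]
    intro x hx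
    have := hpm hx
    rw [← hq] at this
    exact this
  let q' : Ideal T := q.map π
  have hq'p : q'.IsPrime := Ideal.map_isPrime_of_surjective hπ hkq
  have hq'c : q'.comap π = q := by
    rw [Ideal.comap_map_of_surjective _ hπ, sup_eq_left]
    exact hkq
  have hq'm : q'.comap (algebraMap (S ⧸ p) T) = maximalIdeal (S ⧸ p) := by
    have h1 : (q'.comap (algebraMap (S ⧸ p) T)).comap (Ideal.Quotient.mk p) = maximalIdeal S := by
      rw [← hq]
      ext x
      have h0 : algebraMap (S ⧸ p) T (Ideal.Quotient.mk p x) = π (algebraMap S (S ⊗[k] K) x) := by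
        rw [Algebra.TensorProduct.algebraMap_apply, Algebra.TensorProduct.algebraMap_apply]
        exact (Algebra.TensorProduct.map_tmul π₀ (AlgHom.id k K) x 1).symm
      change algebraMap (S ⧸ p) T (Ideal.Quotient.mk p x) ∈ q' ↔ algebraMap S (S ⊗[k] K) x ∈ q
      rw [h0]
      exact SetLike.ext_iff.mp hq'c _
    have h2 : (maximalIdeal S).map (Ideal.Quotient.mk p) = q'.comap (algebraMap (S ⧸ p) T) := by
      rw [← h1, Ideal.map_comap_of_surjective _ Ideal.Quotient.mk_surjective]
    have h3 : (q'.comap (algebraMap (S ⧸ p) T)).IsPrime := Ideal.comap_isPrime _ _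
    have h4 := Ideal.map_eq_top_or_isMaximal_of_surjective (Ideal.Quotient.mk p)
      Ideal.Quotient.mk_surjective (maximalIdeal.isMaximal S)
    rw [h2] at h4
    exact eq_maximalIdeal (h4.resolve_left h3.ne_top)
  have hR := Groth.Agent.Ega4C.GeomUnibranchMain.isGeomUnibranch_baseChange k (S ⧸ p) K hGU q' hq'm
  obtain ⟨c, hc1, hc2, hc3⟩ := exists_prime_abs (C := C) π.toRingHom hπ q q' hq'c hR
  refine ⟨c, hc1, fun c' hc' hpc => hc2 c' hc' ?_, fun {_} => hc3⟩
  change RingHom.ker π ≤ _
  rw [hker, Ideal.map_le_iff_le_comap]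
  intro x hx
  have h5 := hpc hx
  rw [Ideal.mem_comap, IsScalarTower.algebraMap_apply S (S ⊗[k] K) C] at h5
  exact h5

include q in
/-- Upper bound over a strictly henselian ring. -/
theorem numGeomBranches_le [HenselianLocalRing S] [IsSepClosed (ResidueField S)] [IsLocalRing C]
    (hq : q.comap (algebraMap S (S ⊗[k] K)) = maximalIdeal S) (hfin : (minimalPrimes S).Finite) :
    numGeomBranches C ≤ ENat.card (minimalPrimes S) := by
  have hflat1 : Module.Flat (S ⊗[k] K) C := IsLocalization.flat C q.primeCompl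
  have hflat : Module.Flat S C := Module.Flat.trans S (S ⊗[k] K) C
  have hmaps := K580.CountHens.mapsTo_comap_minimalPrimes (A := S) (S := C)
  have key : ∀ p ∈ minimalPrimes S, ∃ c : Ideal C, c.IsPrime ∧
      (∀ c' : Ideal C, c'.IsPrime → p ≤ c'.comap (algebraMap S C) → c ≤ c') ∧
      ∀ [IsLocalRing (C ⧸ c)], CAlg2.IsGeomUnibranch (C ⧸ c) := by
    intro p hp
    have : p.IsPrime := hp.1.1
    have := K580.SumMin.isLocalRing_quot S p
    exact exists_prime k S K q C hq p (isGeomUnibranch_quot S p)
  have key2 : ∀ c ∈ minimalPrimes C, ∀ c₀ : Ideal C, c₀.IsPrime →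
      (∀ c' : Ideal C, c'.IsPrime → c.comap (algebraMap S C) ≤ c'.comap (algebraMap S C) → c₀ ≤ c') → c = c₀ := by
    intro c hc c₀ hc₀ h
    have hcp : c.IsPrime := hc.1.1
    exact le_antisymm (hc.2 ⟨hc₀, bot_le⟩ (h c hcp le_rfl)) (h c hcp le_rfl)
  have hinj : Set.InjOn (Ideal.comap (algebraMap S C)) (minimalPrimes C) := by
    intro c hc c' hc' hcc'
    obtain ⟨c₀, h0, h1, -⟩ := key _ (hmaps hc)
    rw [key2 c hc c₀ h0 h1]
    refine (key2 c' hc' c₀ h0 ?_).symm
    rw [← hcc']
    exact h1
  have hfinC : (minimalPrimes C).Finite := Set.Finite.of_injOn hmaps hinj hfin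
  have h1 : ∀ c : minimalPrimes C, (haveI : c.1.IsPrime := c.2.1.1; haveI := K580.SumMin.isLocalRing_quot C c.1;
      numGeomBranches (C ⧸ c.1)) = 1 := by
    intro c
    have : c.1.IsPrime := c.2.1.1
    have := K580.SumMin.isLocalRing_quot C c.1
    rw [K580.Unibranch.numGeomBranches_eq_one_iff]
    obtain ⟨c₀, h0, h1, h2⟩ := key _ (hmaps c.2)
    have h3 := key2 c.1 c.2 c₀ h0 h1
    subst h3
    exact h2
  have hF : Finite (minimalPrimes C) := hfinC.to_subtype
  cases nonempty_fintype (minimalPrimes C)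
  rw [K580.SumMin.numGeomBranches_eq_sum C hfinC, finsum_congr h1, finsum_eq_sum_of_fintype]
  rw [Finset.sum_const, nsmul_eq_mul, mul_one, Finset.card_univ, ← ENat.card_eq_coe_fintype_card]
  have h4 : (minimalPrimes C).encard ≤ (minimalPrimes S).encard := by
    rw [← hinj.encard_image]
    exact Set.encard_le_encard hmaps.image_subset
  exact h4

end

/-- The number of geometric branches is invariant under ring isomorphisms. -/
theorem numGeomBranches_congr {A B : Type u} [CommRing A] [IsLocalRing A] [CommRing B] [IsLocalRing B] (e : A ≃+* B) :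
    numGeomBranches A = numGeomBranches B := by
  have h : ∀ {A B : Type u} [CommRing A] [IsLocalRing A] [CommRing B] [IsLocalRing B] (_ : A ≃+* B),
      numGeomBranches A ≤ numGeomBranches B := by
    intro A B _ _ _ _ e
    let _ : Algebra A B := e.toRingHom.toAlgebra
    have h1 : IsLocalHom (algebraMap A B) := ⟨fun a ha => by
      have h2 : IsUnit (e.symm (e a)) := ha.map e.symm
      rwa [e.symm_apply_apply] at h2⟩
    have h2 : Module.Flat A B := by
      have e' : A ≃ₗ[A] B :=
        { e with
          map_smul' := fun a b => by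
            change e (a * b) = a • e b
            rw [map_mul, Algebra.smul_def]
            rfl }
      exact Module.Flat.of_linearEquiv e'.symm
    exact K580.FlatLe.numGeomBranches_le A B
  exact le_antisymm (h e) (h e.symm)

/-- **Base change**: for a local `k`-algebra `A`, an extension `K/k` and a prime `q` of `A ⊗ K` over the maximal
ideal, `(A ⊗ K)_q` and `A` have the same number of geometric branches. -/
theorem numGeomBranches_baseChange (k A K : Type u) [Field k] [CommRing A] [IsLocalRing A] [Algebra k A]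
    [Field K] [Algebra k K] (q : Ideal (A ⊗[k] K)) [q.IsPrime]
    (hq : q.comap (algebraMap A (A ⊗[k] K)) = maximalIdeal A) :
    numGeomBranches (Localization.AtPrime q) = numGeomBranches A := by
  have hfl1 : Module.Flat A (Localization.AtPrime q) := Module.Flat.trans A (A ⊗[k] K) (Localization.AtPrime q)
  have hloc1 : IsLocalHom (algebraMap A (Localization.AtPrime q)) := by
    apply ((IsLocalRing.local_hom_TFAE (algebraMap A (Localization.AtPrime q))).out 0 4).mpr
    rw [IsScalarTower.algebraMap_eq A (A ⊗[k] K) (Localization.AtPrime q), ← Ideal.comap_comap,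
      ← Ideal.under_def (A ⊗[k] K), IsLocalization.AtPrime.under_maximalIdeal (Localization.AtPrime q) q, hq]
  refine le_antisymm ?_ (K580.FlatLe.numGeomBranches_le A _)
  obtain ⟨S, _, _, _, _, hS, -⟩ := Groth.Agent.Hensel.Exist.exists_isStrictHenselization (R := A)
  rw [← K580.CountHens.strictHenselization A S]
  by_cases hfin : (minimalPrimes S).Finite
  swap
  · have h1 : ENat.card (minimalPrimes S) = ⊤ := Set.encard_eq_top_iff.mpr hfin
    rw [h1]
    exact le_top
  have hhens : HenselianLocalRing S := hS.henselian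
  have hsc : IsSepClosure (ResidueField A) (ResidueField S) := hS.isSepClosure
  have hsep : IsSepClosed (ResidueField S) := hsc.sep_closed
  have hAS := Groth.Agent.Hensel.Lazard.faithfullyFlat_of_isStrictHenselization A S
  let _ : Algebra k S := ((algebraMap A S).comp (algebraMap k A)).toAlgebra
  have : IsScalarTower k A S := IsScalarTower.of_algebraMap_eq' rfl
  have hlocS : IsLocalHom (algebraMap A S) := inferInstance
  have hcomapS : (maximalIdeal S).comap (algebraMap A S) = maximalIdeal A :=
    ((IsLocalRing.local_hom_TFAE (algebraMap A S)).out 0 4).mp hlocS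
  let g : A ⊗[k] K →ₐ[k] S ⊗[k] K := Algebra.TensorProduct.map (IsScalarTower.toAlgHom k A S) (AlgHom.id k K)
  have hgflat : g.toRingHom.Flat := by
    refine RingHom.Flat.tensorProductMap (S := k) ?_ (RingHom.Flat.id K)
    exact (RingHom.flat_algebraMap_iff).mpr inferInstance
  obtain ⟨q', hq'p, hq'q, hq'm⟩ : ∃ q' : Ideal (S ⊗[k] K), q'.IsPrime ∧ q'.comap g.toRingHom = q ∧
      q'.comap (algebraMap S (S ⊗[k] K)) = maximalIdeal S := by
    obtain ⟨r, hr1, hr2⟩ := K868.SchFin.exists_prime_tensorProduct (R := A)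
      (⟨q, inferInstance⟩ : PrimeSpectrum (A ⊗[k] K)) (closedPoint S) (by
        apply PrimeSpectrum.ext
        change q.comap (algebraMap A (A ⊗[k] K)) = (maximalIdeal S).comap (algebraMap A S)
        rw [hq]
        exact hcomapS.symm)
    let f1 : S →ₐ[k] (A ⊗[k] K) ⊗[A] S := (Algebra.TensorProduct.includeRight :
      S →ₐ[A] (A ⊗[k] K) ⊗[A] S).restrictScalars k
    let f2 : K →ₐ[k] (A ⊗[k] K) ⊗[A] S := ((Algebra.TensorProduct.includeLeft :
      (A ⊗[k] K) →ₐ[A] (A ⊗[k] K) ⊗[A] S).restrictScalars k).comp Algebra.TensorProduct.includeRight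
    let Ψ : S ⊗[k] K →ₐ[k] (A ⊗[k] K) ⊗[A] S := Algebra.TensorProduct.productMap f1 f2
    have hΨ : ∀ x, Ψ (g x) = x ⊗ₜ[A] 1 := by
      intro x
      induction x with
      | zero => simp
      | add x y hx hy => rw [map_add, map_add, hx, hy, TensorProduct.add_tmul]
      | tmul a c =>
        have h1 : g (a ⊗ₜ c) = (algebraMap A S a) ⊗ₜ c := rfl
        rw [h1, Algebra.TensorProduct.productMap_apply_tmul]
        have h2 : f1 (algebraMap A S a) = (algebraMap A (A ⊗[k] K) a) ⊗ₜ[A] 1 := by
          change (1 : A ⊗[k] K) ⊗ₜ[A] (algebraMap A S a) = _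
          rw [Algebra.algebraMap_eq_smul_one, ← TensorProduct.smul_tmul, Algebra.algebraMap_eq_smul_one]
        have h3 : f2 c = ((1 : A) ⊗ₜ[k] c) ⊗ₜ[A] (1 : S) := rfl
        rw [h2, h3, Algebra.TensorProduct.tmul_mul_tmul, one_mul, Algebra.TensorProduct.algebraMap_apply,
          Algebra.TensorProduct.tmul_mul_tmul, mul_one, one_mul]
        rfl
    refine ⟨r.asIdeal.comap Ψ.toRingHom, Ideal.comap_isPrime _ _, ?_, ?_⟩
    · ext x
      have h1 := SetLike.ext_iff.mp (congrArg PrimeSpectrum.asIdeal hr1) x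
      change Ψ (g x) ∈ r.asIdeal ↔ x ∈ q
      rw [hΨ]
      exact h1
    · ext x
      have h1 := SetLike.ext_iff.mp (congrArg PrimeSpectrum.asIdeal hr2) x
      change Ψ (x ⊗ₜ 1) ∈ r.asIdeal ↔ x ∈ maximalIdeal S
      rw [Algebra.TensorProduct.productMap_apply_tmul, map_one, mul_one]
      exact h1
  refine le_trans ?_ (numGeomBranches_le k S K q' (Localization.AtPrime q') hq'm hfin)
  let F := Localization.localRingHom q q' g.toRingHom hq'q.symm
  let _ : Algebra (Localization.AtPrime q) (Localization.AtPrime q') := F.toAlgebra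
  have h1 : Module.Flat (Localization.AtPrime q) (Localization.AtPrime q') :=
    RingHom.Flat.localRingHom hgflat q' q hq'q.symm
  have h2 : IsLocalHom (algebraMap (Localization.AtPrime q) (Localization.AtPrime q')) :=
    Localization.isLocalHom_localRingHom q q' g.toRingHom hq'q.symm
  exact K580.FlatLe.numGeomBranches_le _ _

end K421.GeoBranchBC
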