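import Mathlib.RingTheory.DiscreteValuationRing.TFAE
import Mathlib.RingTheory.Filtration
import Mathlib.RingTheory.Regular.RegularSequence

/-!
# Noetherian local rings whose maximal ideal is generated by a nonzerodivisor
-/

set_option autoImplicit false
universe u

open IsLocalRing

namespace K421.DvrPrincipal

/-- A Noetherian local ring whose maximal ideal is generated by a nonzerodivisor is a discrete valuation ring. -/
theorem isDiscreteValuationRing_of_principal (R : Type u) [CommRing R] [IsLocalRing R] [IsNoetherianRing R]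
    (t : R) (ht : Ideal.span {t} = maximalIdeal R) (hreg : t ∈ nonZeroDivisors R) :
    ∃ _ : IsDomain R, IsDiscreteValuationRing R := by
  have key : ∀ a : R, a ≠ 0 → ∃ (n : ℕ) (u : R), IsUnit u ∧ a = t ^ n * u := by
    intro a ha
    have h1 : ∃ n, a ∉ maximalIdeal R ^ n := by
      by_contra hcon
      push Not at hcon
      apply ha
      have h2 : a ∈ (⨅ i : ℕ, maximalIdeal R ^ i) := by
        rw [Ideal.mem_iInf]; exact hcon
      rw [Ideal.iInf_pow_eq_bot_of_isLocalRing _ (Ideal.IsPrime.ne_top inferInstance)] at h2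
      exact h2
    classical
    let n := Nat.find h1
    have hn : a ∉ maximalIdeal R ^ n := Nat.find_spec h1
    have hn0 : n ≠ 0 := by
      intro h0
      rw [h0, pow_zero, Ideal.one_eq_top] at hn
      exact hn trivial
    obtain ⟨m, hm⟩ := Nat.exists_eq_succ_of_ne_zero hn0
    have hm1 : a ∈ maximalIdeal R ^ m := by
      have := Nat.find_min h1 (m := m) (by change m < n; omega)
      push Not at this
      exact this
    rw [← ht, Ideal.span_singleton_pow, Ideal.mem_span_singleton] at hm1
    obtain ⟨u, hu⟩ := hm1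
    refine ⟨m, u, ?_, hu⟩
    by_contra hnu
    have hu' : u ∈ maximalIdeal R := by rwa [mem_maximalIdeal]
    rw [← ht, Ideal.mem_span_singleton] at hu'
    obtain ⟨v, rfl⟩ := hu'
    apply hn
    rw [hm, ← ht, Ideal.span_singleton_pow, Ideal.mem_span_singleton, hu]
    exact ⟨v, by rw [pow_succ]; ring⟩
  have hnzd : NoZeroDivisors R := by
    refine ⟨fun {a b} hab => ?_⟩
    by_contra hcon
    push Not at hcon
    obtain ⟨n, u, hu, rfl⟩ := key a hcon.1
    obtain ⟨m, v, hv, rfl⟩ := key b hcon.2
    have h1 : t ^ (n + m) ∈ nonZeroDivisors R := pow_mem hreg _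
    have h2 : (u * v) * t ^ (n + m) = 0 := by rw [← hab, pow_add]; ring
    have h3 := (mem_nonZeroDivisors_iff_right.mp h1) _ h2
    have h4 : IsUnit (u * v) := hu.mul hv
    rw [h3] at h4
    exact not_isUnit_zero h4
  have hdom : IsDomain R := NoZeroDivisors.to_isDomain R
  refine ⟨hdom, ?_⟩
  have hnf : ¬ IsField R := by
    intro h
    have h1 := IsLocalRing.isField_iff_maximalIdeal_eq.mp h
    rw [h1, Ideal.span_singleton_eq_bot] at ht
    subst ht
    exact (nonZeroDivisors.ne_zero hreg) rfl
  have hp : (maximalIdeal R).IsPrincipal := ⟨⟨t, ht.symm⟩⟩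
  exact ((IsDiscreteValuationRing.TFAE R hnf).out 4 0).mp hp

end K421.DvrPrincipal
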