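import Groth.Agent.Variety.K421.RedTensor
import Groth.Agent.Variety.K421.DvrPrincipal
import Mathlib.RingTheory.KrullDimension.Zero
import Mathlib.RingTheory.RingHom.Flat
import Mathlib.RingTheory.Flat.TorsionFree
import Mathlib.RingTheory.Ideal.GoingUp
import Mathlib.LinearAlgebra.TensorProduct.RightExactness
import Mathlib.RingTheory.LocalProperties.Reduced
import Mathlib.RingTheory.Flat.Stability

/-!
# Base change of a finite algebra with discrete valuation rings as local rings
-/

set_option autoImplicit false
universe u

open IsLocalRing TensorProduct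

namespace K421.DvrTensor

variable (A B C : Type u) [CommRing A] [CommRing B] [CommRing C] [IsLocalRing A] [IsLocalRing B]
  [Algebra A B] [IsLocalHom (algebraMap A B)] [Algebra A C]

theorem dvr_tensor [Module.Flat A B] (hm : (maximalIdeal A).map (algebraMap A B) = maximalIdeal B)
    [Algebra.IsSeparable (ResidueField A) (ResidueField B)] [Module.Finite A C] [IsNoetherianRing B]
    (hC : ∀ (M : Ideal C) [M.IsMaximal],
      ∃ _ : IsDomain (Localization.AtPrime M), IsDiscreteValuationRing (Localization.AtPrime M))
    (N : Ideal (B ⊗[A] C)) [hN : N.IsMaximal] :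
    ∃ _ : IsDomain (Localization.AtPrime N), IsDiscreteValuationRing (Localization.AtPrime N) := by
  have hNoeth : IsNoetherianRing (B ⊗[A] C) :=
    isNoetherian_of_isNoetherianRing_of_finite B (B ⊗[A] C) |> isNoetherian_of_tower B
  have hNoethN : IsNoetherianRing (Localization.AtPrime N) := inferInstance
  -- `N` lies over the maximal ideals
  have hNB : N.comap (algebraMap B (B ⊗[A] C)) = maximalIdeal B :=
    eq_maximalIdeal (Ideal.isMaximal_comap_of_isIntegral_of_isMaximal N)
  let ι : C →+* B ⊗[A] C := (Algebra.TensorProduct.includeRight : C →ₐ[A] B ⊗[A] C).toRingHom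
  have hι : ∀ a : A, ι (algebraMap A C a) = algebraMap B (B ⊗[A] C) (algebraMap A B a) := by
    intro a
    rw [← IsScalarTower.algebraMap_apply A B (B ⊗[A] C)]
    exact (Algebra.TensorProduct.includeRight : C →ₐ[A] B ⊗[A] C).commutes a
  let M : Ideal C := N.comap ι
  have hMp : M.IsPrime := inferInstance
  have hMA : M.comap (algebraMap A C) = maximalIdeal A := by
    ext a
    have h1 : a ∈ M.comap (algebraMap A C) ↔ algebraMap A B a ∈ N.comap (algebraMap B (B ⊗[A] C)) := by
      rw [Ideal.mem_comap, Ideal.mem_comap, Ideal.mem_comap, hι]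
    rw [h1, hNB, mem_maximalIdeal, mem_maximalIdeal, mem_nonunits_iff, mem_nonunits_iff,
      isUnit_map_iff]
  have hM : M.IsMaximal := by
    apply Ideal.isMaximal_of_isIntegral_of_isMaximal_comap (R := A)
    rw [hMA]
    exact maximalIdeal.isMaximal A
  obtain ⟨hdM, hdvrM⟩ := hC M
  obtain ⟨t, ht⟩ := IsDiscreteValuationRing.exists_irreducible (Localization.AtPrime M)
  have htM : maximalIdeal (Localization.AtPrime M) = Ideal.span {t} := ht.maximalIdeal_eq
  let φ := Localization.localRingHom M N ι rfl
  have hφloc : IsLocalHom φ := Localization.isLocalHom_localRingHom M N ι rfl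
  -- flatness
  have hflat : ι.Flat := by
    have h1 : (Algebra.TensorProduct.includeRight : C →ₐ[A] B ⊗[A] C).toRingHom =
        ((Algebra.TensorProduct.comm A C B).toRingEquiv.toRingHom).comp (algebraMap C (C ⊗[A] B)) := by
      ext c
      simp
    have h2 : (algebraMap C (C ⊗[A] B)).Flat := by
      rw [RingHom.flat_algebraMap_iff]
      infer_instance
    change (Algebra.TensorProduct.includeRight : C →ₐ[A] B ⊗[A] C).toRingHom.Flat
    rw [h1]
    exact RingHom.Flat.comp h2 (RingHom.Flat.of_bijective (Algebra.TensorProduct.comm A C B).bijective)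
  have hφflat : φ.Flat := RingHom.Flat.localRingHom hflat N M rfl
  have hreg : φ t ∈ nonZeroDivisors (Localization.AtPrime N) := by
    let _ : Algebra (Localization.AtPrime M) (Localization.AtPrime N) := φ.toAlgebra
    have : Module.Flat (Localization.AtPrime M) (Localization.AtPrime N) := hφflat
    have ht0 : t ∈ nonZeroDivisors (Localization.AtPrime M) := mem_nonZeroDivisors_of_ne_zero ht.ne_zero
    have h := Module.Flat.isSMulRegular_of_nonZeroDivisors (M := Localization.AtPrime N) ht0
    rw [mem_nonZeroDivisors_iff_right]
    intro x hx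
    apply h
    simp only [smul_zero]
    rw [Algebra.smul_def, mul_comm]; exact hx
  apply DvrPrincipal.isDiscreteValuationRing_of_principal (Localization.AtPrime N) (φ t) _ hreg
  apply le_antisymm
  · rw [Ideal.span_singleton_le_iff_mem]
    have h1 : t ∈ maximalIdeal (Localization.AtPrime M) := by
      rw [htM]; exact Ideal.mem_span_singleton_self t
    rw [mem_maximalIdeal, mem_nonunits_iff] at h1 ⊢
    intro h2
    exact h1 (isUnit_of_map_unit φ t h2)
  · -- the ideal generated by `M` is contained in the ideal generated by `t`
    have hMle : ∀ x ∈ M.map ι, algebraMap (B ⊗[A] C) (Localization.AtPrime N) x ∈ Ideal.span {φ t} := by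
      intro x hx
      have hle : M.map ι ≤ (Ideal.span {φ t}).comap (algebraMap (B ⊗[A] C) (Localization.AtPrime N)) := by
        rw [Ideal.map_le_iff_le_comap]
        intro c hc
        rw [Ideal.mem_comap, Ideal.mem_comap]
        have h1 : algebraMap (B ⊗[A] C) (Localization.AtPrime N) (ι c) =
            φ (algebraMap C (Localization.AtPrime M) c) := (Localization.localRingHom_to_map M N ι rfl c).symm
        rw [h1]
        have h2 : algebraMap C (Localization.AtPrime M) c ∈ maximalIdeal (Localization.AtPrime M) :=
          (IsLocalization.AtPrime.to_map_mem_maximal_iff (Localization.AtPrime M) M _).mpr hc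
        rw [htM, Ideal.mem_span_singleton] at h2
        rw [Ideal.mem_span_singleton]
        exact map_dvd φ h2
      exact hle hx
    -- the quotient is reduced and zero-dimensional
    let _ : Field (C ⧸ M) := Ideal.Quotient.field M
    let E := B ⊗[A] (C ⧸ M)
    have hredE : IsReduced E := by
      apply RedTensor.isReduced_tensor A B hm (C ⧸ M)
      intro a ha
      rw [← hMA] at ha
      exact Ideal.Quotient.eq_zero_iff_mem.mpr ha
    have hdimE : Ring.KrullDimLE 0 E := by
      rw [Ring.krullDimLE_zero_iff]
      intro P hP
      apply Ideal.isMaximal_of_isIntegral_of_isMaximal_comap (R := B)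
      have h1 : maximalIdeal B ≤ P.comap (algebraMap B E) := by
        rw [← hm, Ideal.map_le_iff_le_comap]
        intro a ha
        rw [Ideal.mem_comap, Ideal.mem_comap]
        have h2 : algebraMap B E (algebraMap A B a) = 0 := by
          rw [← IsScalarTower.algebraMap_apply A B E,
            ← (Algebra.TensorProduct.includeRight : (C ⧸ M) →ₐ[A] B ⊗[A] (C ⧸ M)).commutes a]
          have h3 : algebraMap A (C ⧸ M) a = 0 := by
            rw [← hMA] at ha
            exact Ideal.Quotient.eq_zero_iff_mem.mpr ha
          rw [h3, map_zero]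
        rw [h2]
        exact P.zero_mem
      have h2 : P.comap (algebraMap B E) = maximalIdeal B :=
        le_antisymm (le_maximalIdeal (Ideal.IsPrime.ne_top inferInstance)) h1
      rw [h2]
      exact maximalIdeal.isMaximal B
    let π : B ⊗[A] C →ₐ[A] E := Algebra.TensorProduct.map (AlgHom.id A B) (Ideal.Quotient.mkₐ A M)
    have hπs : Function.Surjective π :=
      Algebra.TensorProduct.map_surjective _ _ Function.surjective_id (Ideal.Quotient.mkₐ_surjective A M)
    have hπker : RingHom.ker π = M.map ι := by
      have h1 := Algebra.TensorProduct.lTensor_ker (A := B) (Ideal.Quotient.mkₐ A M)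
        (Ideal.Quotient.mkₐ_surjective A M)
      have h2 : RingHom.ker (Ideal.Quotient.mkₐ A M) = M := Ideal.mk_ker
      rw [h2] at h1
      exact h1
    have hkerN : RingHom.ker π ≤ N := by
      rw [hπker, Ideal.map_le_iff_le_comap]
    have hN' : (N.map π).IsPrime := Ideal.map_isPrime_of_surjective hπs hkerN
    have hfield : IsField (Localization.AtPrime (N.map π)) := by
      have h1 : Ring.KrullDimLE 0 (Localization.AtPrime (N.map π)) :=
        Ring.KrullDimLE.of_isLocalization (N.map π) (Ideal.mem_minimalPrimes_of_krullDimLE_zero _) _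
      have h2 : IsReduced (Localization.AtPrime (N.map π)) :=
        isReduced_localizationPreserves (N.map π).primeCompl (Localization.AtPrime (N.map π)) hredE
      exact Ring.KrullDimLE.isField_of_isReduced
    have key : ∀ x ∈ N, ∃ s : B ⊗[A] C, s ∉ N ∧ s * x ∈ M.map ι := by
      intro x hx
      have h1 : π x ∈ N.map π := Ideal.mem_map_of_mem π hx
      have h2 : algebraMap E (Localization.AtPrime (N.map π)) (π x) ∈
          maximalIdeal (Localization.AtPrime (N.map π)) :=
        (IsLocalization.AtPrime.to_map_mem_maximal_iff _ (N.map π) _).mpr h1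
      rw [IsLocalRing.isField_iff_maximalIdeal_eq.mp hfield, Ideal.mem_bot,
        IsLocalization.map_eq_zero_iff (N.map π).primeCompl] at h2
      obtain ⟨s', hs'⟩ := h2
      obtain ⟨s, hs⟩ := hπs s'
      refine ⟨s, ?_, ?_⟩
      · intro hsN
        exact s'.2 (by rw [← hs]; exact Ideal.mem_map_of_mem π hsN)
      · rw [← hπker, RingHom.mem_ker, map_mul, hs]
        exact hs'
    intro z hz
    obtain ⟨⟨x, s⟩, rfl⟩ := IsLocalization.mk'_surjective N.primeCompl z
    have hx : x ∈ N := by
      rw [IsLocalization.AtPrime.mk'_mem_maximal_iff (Localization.AtPrime N) N] at hz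
      exact hz
    obtain ⟨s', hs', hs'x⟩ := key x hx
    have h1 := hMle _ hs'x
    rw [map_mul] at h1
    have hu : IsUnit (algebraMap (B ⊗[A] C) (Localization.AtPrime N) s') :=
      IsLocalization.map_units (Localization.AtPrime N) (⟨s', hs'⟩ : N.primeCompl)
    have h2 : algebraMap (B ⊗[A] C) (Localization.AtPrime N) x ∈ Ideal.span {φ t} := by
      rwa [Ideal.unit_mul_mem_iff_mem _ hu] at h1
    change IsLocalization.mk' (Localization.AtPrime N) x s ∈ Ideal.span {φ t}
    rw [IsLocalization.mk'_eq_mul_mk'_one]
    exact Ideal.mul_mem_right _ _ h2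

end K421.DvrTensor
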