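import Mathlib.RingTheory.Localization.Integral
import Mathlib.RingTheory.Ideal.GoingUp
import Mathlib.RingTheory.Localization.AtPrime.Basic
import Mathlib.RingTheory.LocalRing.ResidueField.Basic
import Mathlib.RingTheory.Spectrum.Maximal.Basic
import Mathlib.FieldTheory.SeparableDegree
import Mathlib.Topology.Instances.ENNReal.Lemmas
import Mathlib.Topology.Algebra.InfiniteSum.ENNReal
import Mathlib.Topology.Instances.ENNReal.ENatENNReal

/-!
# Primes over a given prime and maximal ideals of the localization; counting lemmas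
-/

set_option autoImplicit false
universe u v w

open IsLocalRing

namespace K421.NormFib

section

variable {B A C D : Type*} [CommRing B] [CommRing A] [CommRing C] [CommRing D] [Algebra B A] [Algebra B C]
  [Algebra A D] [Algebra C D] [Algebra B D] [IsScalarTower B A D] [IsScalarTower B C D]
  (p : Ideal B) [p.IsPrime] [IsLocalization.AtPrime A p]
  [IsLocalization (Algebra.algebraMapSubmonoid C p.primeCompl) D] [Algebra.IsIntegral A D]

variable (A) in
include A in
omit [IsLocalization (Algebra.algebraMapSubmonoid C p.primeCompl) D] in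
theorem comap_comap (N : MaximalSpectrum D) :
    (N.asIdeal.comap (algebraMap C D)).comap (algebraMap B C) = p := by
  have hloc : IsLocalRing A := IsLocalization.AtPrime.isLocalRing A p
  have hN := N.isMaximal
  have h1 : (N.asIdeal.comap (algebraMap A D)).IsMaximal :=
    Ideal.isMaximal_comap_of_isIntegral_of_isMaximal N.asIdeal
  have h2 : N.asIdeal.comap (algebraMap A D) = maximalIdeal A := eq_maximalIdeal h1
  have h3 : (maximalIdeal A).comap (algebraMap B A) = p := IsLocalization.AtPrime.under_maximalIdeal A p
  rw [Ideal.comap_comap, ← IsScalarTower.algebraMap_eq, IsScalarTower.algebraMap_eq B A D,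
    ← Ideal.comap_comap, h2, h3]

variable (A C) in
/-- A maximal ideal of `D` restricts to a prime of `C` over `p`. -/
def toPrime (N : MaximalSpectrum D) :
    {q : PrimeSpectrum C // q.asIdeal.comap (algebraMap B C) = p} :=
  ⟨⟨N.asIdeal.comap (algebraMap C D), by
    have hN := N.isMaximal
    exact Ideal.comap_isPrime _ _⟩, comap_comap A p N⟩

include A in
variable (A) in
omit [IsLocalization (Algebra.algebraMapSubmonoid C p.primeCompl) D] [Algebra C D] [IsScalarTower B C D] in
theorem isMaximal_of_comap (Q : Ideal D) [hQ : Q.IsPrime] (h : Q.comap (algebraMap B D) = p) : Q.IsMaximal := by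
  have hloc : IsLocalRing A := IsLocalization.AtPrime.isLocalRing A p
  have hP : (Q.comap (algebraMap A D)).IsPrime := Ideal.comap_isPrime _ _
  have hPB : (Q.comap (algebraMap A D)).comap (algebraMap B A) = p := by
    rw [Ideal.comap_comap, ← IsScalarTower.algebraMap_eq, h]
  have hPm : Q.comap (algebraMap A D) = maximalIdeal A := by
    have h1 := congrArg (Ideal.map (algebraMap B A)) hPB
    have h2 := congrArg (Ideal.map (algebraMap B A)) (IsLocalization.AtPrime.under_maximalIdeal A p)
    have h3 := IsLocalization.map_under p.primeCompl A (Q.comap (algebraMap A D))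
    have h4 := IsLocalization.map_under p.primeCompl A (maximalIdeal A)
    rw [← h3, ← h4]
    exact h1.trans h2.symm
  have hmax : (Q.comap (algebraMap A D)).IsMaximal := by
    rw [hPm]
    exact maximalIdeal.isMaximal A
  exact Ideal.isMaximal_of_isIntegral_of_isMaximal_comap _ hmax

theorem toPrime_bijective : Function.Bijective (toPrime A C p (D := D)) := by
  have hloc : IsLocalRing A := IsLocalization.AtPrime.isLocalRing A p
  constructor
  · intro N N' h
    have h1 : N.asIdeal.comap (algebraMap C D) = N'.asIdeal.comap (algebraMap C D) :=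
      congrArg (fun z => z.1.asIdeal) h
    have h2 := congrArg (Ideal.map (algebraMap C D)) h1
    rw [IsLocalization.map_under (Algebra.algebraMapSubmonoid C p.primeCompl) D,
      IsLocalization.map_under (Algebra.algebraMapSubmonoid C p.primeCompl) D] at h2
    exact MaximalSpectrum.ext h2
  · rintro ⟨q, hq⟩
    have hqp := q.isPrime
    have hdisj : Disjoint (Algebra.algebraMapSubmonoid C p.primeCompl : Set C) (q.asIdeal : Set C) := by
      rw [Set.disjoint_left]
      rintro _ ⟨m, hm, rfl⟩ hmq
      apply hm
      rw [← hq]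
      exact hmq
    have hQ : (q.asIdeal.map (algebraMap C D)).IsPrime :=
      IsLocalization.isPrime_of_isPrime_disjoint (Algebra.algebraMapSubmonoid C p.primeCompl) D _ hqp hdisj
    have hQc : (q.asIdeal.map (algebraMap C D)).comap (algebraMap C D) = q.asIdeal :=
      IsLocalization.under_map_of_isPrime_disjoint (Algebra.algebraMapSubmonoid C p.primeCompl) D hqp hdisj
    have hQm : (q.asIdeal.map (algebraMap C D)).IsMaximal := by
      apply isMaximal_of_comap A p
      rw [IsScalarTower.algebraMap_eq B C D, ← Ideal.comap_comap, hQc, hq]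
    refine ⟨⟨_, hQm⟩, Subtype.ext (PrimeSpectrum.ext ?_)⟩
    exact hQc

end

section

variable {B A C D O : Type*} [CommRing B] [CommRing A] [CommRing C] [CommRing D] [CommRing O]
  [IsLocalRing O] [Algebra B A] [Algebra B C] [Algebra A D] [Algebra C D] [Algebra B D] [Algebra C O]
  [Algebra A O] [Algebra B O] [IsScalarTower B A D] [IsScalarTower B C D] [IsScalarTower B A O]
  [IsScalarTower B C O] (p : Ideal B) [p.IsPrime] [IsLocalization.AtPrime A p]
  [IsLocalization (Algebra.algebraMapSubmonoid C p.primeCompl) D] [Algebra.IsIntegral A D]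
  (q : Ideal C) [q.IsPrime] [IsLocalization.AtPrime O q]

variable (A B C D O)

/-- `D → κ(O)`, surjective. -/
theorem exists_residue (hq : q.comap (algebraMap B C) = p) :
    ∃ ψ : D →+* ResidueField O, Function.Surjective ψ ∧
      ψ.comp (algebraMap C D) = (residue O).comp (algebraMap C O) ∧
      ψ.comp (algebraMap A D) = (residue O).comp (algebraMap A O) := by
  have hunit : ∀ y : Algebra.algebraMapSubmonoid C p.primeCompl, IsUnit (algebraMap C O y) := by
    rintro ⟨_, m, hm, rfl⟩
    apply IsLocalization.map_units O (⟨algebraMap B C m, ?_⟩ : q.primeCompl)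
    intro h
    apply hm
    rw [← hq]
    exact h
  let g : D →+* O := IsLocalization.lift hunit
  have hg : g.comp (algebraMap C D) = algebraMap C O := IsLocalization.lift_comp hunit
  let ψ : D →+* ResidueField O := (residue O).comp g
  have hψC : ψ.comp (algebraMap C D) = (residue O).comp (algebraMap C O) := by
    rw [RingHom.comp_assoc, hg]
  have hψA : ψ.comp (algebraMap A D) = (residue O).comp (algebraMap A O) := by
    apply IsLocalization.ringHom_ext p.primeCompl
    rw [RingHom.comp_assoc, ← IsScalarTower.algebraMap_eq, IsScalarTower.algebraMap_eq B C D,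
      ← RingHom.comp_assoc, hψC, RingHom.comp_assoc, ← IsScalarTower.algebraMap_eq, RingHom.comp_assoc,
      ← IsScalarTower.algebraMap_eq]
  have hkerC : (RingHom.ker ψ).comap (algebraMap C D) = q := by
    rw [RingHom.comap_ker, hψC, ← RingHom.comap_ker, ker_residue]
    exact IsLocalization.AtPrime.under_maximalIdeal O q
  have hprime : (RingHom.ker ψ).IsPrime := RingHom.ker_isPrime ψ
  have hmax : (RingHom.ker ψ).IsMaximal := by
    apply isMaximal_of_comap A p
    rw [IsScalarTower.algebraMap_eq B C D, ← Ideal.comap_comap, hkerC, hq]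
  refine ⟨ψ, ?_, hψC, hψA⟩
  intro z
  obtain ⟨w, rfl⟩ := residue_surjective z
  obtain ⟨c, s, hs⟩ := IsLocalization.exists_mk'_eq q.primeCompl w
  have hw : w * algebraMap C O s = algebraMap C O c := by
    rw [← hs, IsLocalization.mk'_spec]
  have hsP : algebraMap C D s ∉ RingHom.ker ψ := by
    intro h
    exact s.2 ((SetLike.ext_iff.mp hkerC (s : C)).mp h)
  obtain ⟨t, a, ha, hta⟩ := hmax.exists_inv hsP
  refine ⟨algebraMap C D c * t, ?_⟩
  have h1 : ∀ x : C, ψ (algebraMap C D x) = residue O (algebraMap C O x) := fun x => congrArg (fun f => f x) hψC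
  have h2 : ψ t * ψ (algebraMap C D s) = 1 := by
    have := congrArg ψ hta
    rw [map_add, map_mul, (RingHom.mem_ker).mp ha, add_zero, map_one] at this
    exact this
  rw [map_mul, h1, ← hw, map_mul, ← h1, mul_assoc, mul_comm (ψ (algebraMap C D s)), h2, mul_one]

/-- Embeddings of `D/N` and of `κ(O)` over `A` are the same. -/
theorem nonempty_emb_equiv (hq : q.comap (algebraMap B C) = p) {Ω : Type*} [Field Ω] (φ : A →+* Ω)
    (N : Ideal D) (hN : N.comap (algebraMap C D) = q) :
    Nonempty ({σ : D ⧸ N →+* Ω // σ.comp ((Ideal.Quotient.mk N).comp (algebraMap A D)) = φ} ≃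
      {τ : ResidueField O →+* Ω // τ.comp ((residue O).comp (algebraMap A O)) = φ}) := by
  obtain ⟨ψ, hψ, hψC, hψA⟩ := exists_residue B A C D O p q hq
  have hkerC : (RingHom.ker ψ).comap (algebraMap C D) = q := by
    rw [RingHom.comap_ker, hψC, ← RingHom.comap_ker, ker_residue]
    exact IsLocalization.AtPrime.under_maximalIdeal O q
  have hNk : N = RingHom.ker ψ := by
    rw [← IsLocalization.map_under (Algebra.algebraMapSubmonoid C p.primeCompl) D N,
      ← IsLocalization.map_under (Algebra.algebraMapSubmonoid C p.primeCompl) D (RingHom.ker ψ)]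
    exact congrArg (Ideal.map (algebraMap C D)) (hN.trans hkerC.symm)
  subst hNk
  let e : (D ⧸ RingHom.ker ψ) ≃+* ResidueField O := RingHom.quotientKerEquivOfSurjective hψ
  have he : ∀ x : D, e (Ideal.Quotient.mk _ x) = ψ x := fun x => rfl
  have he' : ∀ x : D, e.symm (ψ x) = Ideal.Quotient.mk _ x := fun x => by
    rw [← he, e.symm_apply_apply]
  have hA : ∀ a : A, ψ (algebraMap A D a) = residue O (algebraMap A O a) := fun a =>
    congrArg (fun f => f a) hψA
  exact ⟨{
    toFun := fun σ => ⟨σ.1.comp e.symm.toRingHom, by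
      ext a
      have h1 := congrArg (fun f => f a) σ.2
      change σ.1 (e.symm (residue O (algebraMap A O a))) = _
      rw [← hA, he']
      exact h1⟩
    invFun := fun τ => ⟨τ.1.comp e.toRingHom, by
      ext a
      have h1 := congrArg (fun f => f a) τ.2
      change τ.1 (e (Ideal.Quotient.mk _ (algebraMap A D a))) = _
      rw [he, hA]
      exact h1⟩
    left_inv := fun σ => by
      apply Subtype.ext
      apply RingHom.ext
      intro x
      exact congrArg σ.1 (e.symm_apply_apply x)
    right_inv := fun τ => by
      apply Subtype.ext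
      apply RingHom.ext
      intro x
      exact congrArg τ.1 (e.apply_symm_apply x) }⟩

end

open scoped ENNReal

theorem enat_hasSum {ι : Type*} (f : ι → ℕ∞) : HasSum f (⨆ s : Finset ι, ∑ i ∈ s, f i) :=
  tendsto_atTop_iSup (Finset.sum_mono_set f)

theorem toENNReal_tsum {ι : Type*} (f : ι → ℕ∞) : ((∑' i, f i : ℕ∞) : ℝ≥0∞) = ∑' i, (f i : ℝ≥0∞) := by
  have h := (enat_hasSum f).map (ENat.toENNRealRingHom : ℕ∞ →+* ℝ≥0∞) ENat.continuous_toENNReal
  rw [(enat_hasSum f).tsum_eq]
  exact h.tsum_eq.symm

/-- The cardinality of a disjoint union, as a sum in `ℕ∞`. -/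
theorem card_sigma {ι : Type*} (β : ι → Type*) : ENat.card (Σ a, β a) = ∑' a, ENat.card (β a) := by
  rw [← ENat.toENNReal_inj, toENNReal_tsum, ← ENNReal.tsum_one, ENNReal.tsum_sigma' fun _ => 1]
  exact tsum_congr fun a => ENNReal.tsum_one

end K421.NormFib
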