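import Groth.Agent.Ega41.RedTensor
import Mathlib.RingTheory.LocalRing.ResidueField.Basic
import Mathlib.RingTheory.TensorProduct.Basic
import Mathlib.FieldTheory.Separable

/-!
# `B ⊗ L` is reduced for a local map `A → B` with `m_A B = m_B` and separable residue field extension
-/

set_option autoImplicit false
universe u

open IsLocalRing TensorProduct

namespace K421.RedTensor

variable (A B : Type u) [CommRing A] [CommRing B] [IsLocalRing A] [IsLocalRing B] [Algebra A B]
  [IsLocalHom (algebraMap A B)]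

theorem isReduced_tensor (hm : (maximalIdeal A).map (algebraMap A B) = maximalIdeal B)
    [Algebra.IsSeparable (ResidueField A) (ResidueField B)] (L : Type u) [Field L] [Algebra A L]
    (hL : ∀ a ∈ maximalIdeal A, algebraMap A L a = 0) : IsReduced (B ⊗[A] L) := by
  let κ := ResidueField A
  let κ' := ResidueField B
  let ρ : κ →+* L := Ideal.Quotient.lift (maximalIdeal A) (algebraMap A L) hL
  let _ : Algebra κ L := ρ.toAlgebra
  have tow : IsScalarTower A κ L := IsScalarTower.of_algebraMap_eq fun _ => rfl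
  have hred : IsReduced (L ⊗[κ] κ') := Groth.Agent.Ega41.RedTensor.isReduced_tensor_of_isSeparable κ L κ'
  -- the map to `L ⊗ κ'`
  let f : B →ₐ[A] L ⊗[κ] κ' :=
    ((Algebra.TensorProduct.includeRight : κ' →ₐ[κ] L ⊗[κ] κ').restrictScalars A).comp
      (IsScalarTower.toAlgHom A B κ')
  let g : L →ₐ[A] L ⊗[κ] κ' :=
    ((Algebra.TensorProduct.includeLeft : L →ₐ[κ] L ⊗[κ] κ').restrictScalars A)
  let F : B ⊗[A] L →ₐ[A] L ⊗[κ] κ' := Algebra.TensorProduct.lift f g (fun _ _ => Commute.all _ _)
  -- the inverse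
  let _ : Algebra κ (B ⊗[A] L) :=
    ((Algebra.TensorProduct.includeRight : L →ₐ[A] B ⊗[A] L).toRingHom.comp ρ).toAlgebra
  let g' : L →ₐ[κ] B ⊗[A] L :=
    { (Algebra.TensorProduct.includeRight : L →ₐ[A] B ⊗[A] L).toRingHom with
      commutes' := fun _ => rfl }
  have hkill : ∀ b ∈ maximalIdeal B, (Algebra.TensorProduct.includeLeftRingHom : B →+* B ⊗[A] L) b = 0 := by
    intro b hb
    rw [← hm] at hb
    have hle : (maximalIdeal A).map (algebraMap A B) ≤
        RingHom.ker (Algebra.TensorProduct.includeLeftRingHom : B →+* B ⊗[A] L) := by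
      rw [Ideal.map_le_iff_le_comap]
      intro a ha
      change (algebraMap A B a) ⊗ₜ[A] (1 : L) = 0
      rw [Algebra.algebraMap_eq_smul_one, TensorProduct.smul_tmul, ← Algebra.algebraMap_eq_smul_one,
        hL a ha, TensorProduct.tmul_zero]
    exact hle hb
  let f0 : κ' →+* B ⊗[A] L := Ideal.Quotient.lift (maximalIdeal B) Algebra.TensorProduct.includeLeftRingHom hkill
  let f' : κ' →ₐ[κ] B ⊗[A] L :=
    { f0 with
      commutes' := fun c => by
        obtain ⟨a, rfl⟩ := residue_surjective c
        change (algebraMap A B a) ⊗ₜ[A] (1 : L) = (1 : B) ⊗ₜ[A] (algebraMap A L a)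
        rw [Algebra.algebraMap_eq_smul_one, TensorProduct.smul_tmul, ← Algebra.algebraMap_eq_smul_one] }
  let G : L ⊗[κ] κ' →ₐ[κ] B ⊗[A] L := Algebra.TensorProduct.lift g' f' (fun _ _ => Commute.all _ _)
  have hGF : ∀ z, G (F z) = z := by
    intro z
    induction z with
    | zero => simp
    | add x y hx hy => rw [map_add, map_add, hx, hy]
    | tmul b l =>
      have h1 : F (b ⊗ₜ l) = f b * g l := Algebra.TensorProduct.lift_tmul _ _ _ _ _
      have h2 : f b = (1 : L) ⊗ₜ[κ] (residue B b) := rfl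
      have h3 : g l = l ⊗ₜ[κ] (1 : κ') := rfl
      rw [h1, h2, h3, Algebra.TensorProduct.tmul_mul_tmul, one_mul, mul_one]
      have h4 : G (l ⊗ₜ[κ] residue B b) = g' l * f' (residue B b) := Algebra.TensorProduct.lift_tmul _ _ _ _ _
      rw [h4]
      change ((1 : B) ⊗ₜ[A] l) * (b ⊗ₜ[A] (1 : L)) = _
      rw [Algebra.TensorProduct.tmul_mul_tmul, one_mul, mul_one]
  exact isReduced_of_injective F.toRingHom (Function.LeftInverse.injective hGF)

end K421.RedTensor
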